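import Cfsg.Agent.Lib.JO.Bas
import Cfsg.Agent.Lib.ZD.BW
import Cfsg.Agent.Lib.Core.CoprimeAbelian

/-! Transfer and fusion tools. -/

set_option autoImplicit false
set_option linter.style.haveILetI false
set_option linter.unusedSectionVars false

namespace H79.JO

open Subgroup H4.YM H4.TL Matrix MatrixGroups
open H25.L2B (fix_sq fix_trace aut_comm aut_inv_uniq syl_iff WrD Lie2 Eight)

variable {G : Type*} [Group G] [Finite G] {F : Type*} [Field F] [Finite F]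

namespace TRP

omit [Finite G] in
theorem fix_modEq {α : Type*} [MulAction G α] [Finite α] {g : G} {j : ℕ} (hg : g ^ 2 ^ j = 1)
    (K : Set α) (hK : ∀ a ∈ K, g • a ∈ K) : K.ncard ≡ (K ∩ {a | g • a = a}).ncard [MOD 2] := by
  classical
  haveI : Fact (Nat.Prime 2) := ⟨Nat.prime_two⟩
  haveI := Fintype.ofFinite K
  let f : Function.End K := fun v => ⟨g • v.1, hK v v.2⟩
  have hf : ∀ (n : ℕ) (v : K), ((f ^ n) v : α) = g ^ n • v.1 := fun n => by
    induction n with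
    | zero => intro v; simp; rfl
    | succ n ih => intro v; rw [pow_succ, pow_succ, mul_smul, ← ih (f v)]; rfl
  have h := Equiv.Perm.card_fixedPoints_modEq (f := f) (p := 2) (n := j)
    (funext fun v => Subtype.ext (by rw [hf, hg, one_smul]; rfl))
  rw [← Nat.card_eq_fintype_card, ← Nat.card_eq_fintype_card, Nat.card_coe_set_eq] at h
  rwa [← Nat.card_coe_set_eq (K ∩ _), ← Nat.card_congr (α := f.fixedPoints)
    ⟨fun v => ⟨v.1.1, v.1.2, congrArg Subtype.val v.2⟩, fun v => ⟨⟨v.1, v.2.1⟩, Subtype.ext v.2.2⟩,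
      fun _ => rfl, fun _ => rfl⟩]

omit [Finite G] in
theorem fix_iff {S : Subgroup G} (z : G) (q : G ⧸ S) : z • q = q ↔ q.out⁻¹ * z * q.out ∈ S := by
  conv_lhs => rw [← QuotientGroup.out_eq' q]
  rw [MulAction.Quotient.smul_mk, QuotientGroup.eq, ← S.inv_mem_iff]
  simp [mul_assoc]

/-- the transfer count -/
theorem odd_count {S S0 : Subgroup G} (hS : Odd S.index) (h0 : S0 ≤ S)
    (hab : ∀ a ∈ S, ∀ b ∈ S, a * b * a⁻¹ * b⁻¹ ∈ S0) {x : G} (hx : x ∈ S) (hx0 : x ∉ S0)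
    (hxx : x * x = 1) (hx' : x ∈ commutator G)
    (hc : ∀ g, g * x * g⁻¹ ∈ S → g * x * g⁻¹ ∈ S0 ∨ x * (g * x * g⁻¹) ∈ S0) :
    Odd {q : G ⧸ S | q.out⁻¹ * x * q.out ∈ S0}.ncard := by
  classical
  haveI : Fact (Nat.Prime 2) := ⟨Nat.prime_two⟩
  have cj0 : ∀ s ∈ S, ∀ a ∈ S0, s * a * s⁻¹ ∈ S0 := fun s hs a ha => by
    simpa using S0.mul_mem (hab s hs a (h0 ha)) ha
  haveI : (S0.subgroupOf S).Normal := ⟨fun a ha s => cj0 s s.2 a ha⟩
  let π := QuotientGroup.mk' (S0.subgroupOf S)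
  have hπ : ∀ a : S, π a = 1 ↔ (a : G) ∈ S0 := fun a => QuotientGroup.eq_one_iff a
  letI : CommGroup (S ⧸ S0.subgroupOf S) :=
    { (inferInstance : Group (S ⧸ S0.subgroupOf S)) with
      mul_comm := fun a b => by
        obtain ⟨a, rfl⟩ := QuotientGroup.mk'_surjective _ a
        obtain ⟨b, rfl⟩ := QuotientGroup.mk'_surjective _ b
        rw [← mul_inv_eq_one, _root_.mul_inv_rev, ← mul_assoc, ← map_inv, ← map_inv, ← map_mul,
          ← map_mul, ← map_mul]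
        exact (hπ _).2 (hab a a.2 b b.2) }
  have fx := fix_iff (S := S)
  let X0 : Set (G ⧸ S) := {q | q.out⁻¹ * x * q.out ∈ S0}
  let X1 : Set (G ⧸ S) := {q | x • q = q} \ X0
  have t1 : MonoidHom.transfer π x = 1 := Abelianization.commutator_subset_ker _ hx'
  haveI := S.fintypeQuotientOfFiniteIndex
  haveI : Fintype (Quotient (MulAction.orbitRel (zpowers x) (G ⧸ S))) := Fintype.ofFinite _
  have x2 : π ⟨x, hx⟩ ^ 2 = 1 := by rw [← map_pow, hπ, coe_pow, sq, hxx]; exact S0.one_mem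
  rw [MonoidHom.transfer_eq_prod_quotient_orbitRel_zpowers_quot, Finset.prod_congr rfl
    (g := fun q : Quotient (MulAction.orbitRel (zpowers x) (G ⧸ S)) =>
      if q.out ∈ X1 then π ⟨x, hx⟩ else 1), Finset.prod_ite, Finset.prod_const,
      Finset.prod_const_one, mul_one] at t1
  swap
  · intro q _
    by_cases hq : x • q.out = q.out
    · have m : Function.minimalPeriod (x • ·) q.out = 1 :=
        Function.minimalPeriod_eq_one_iff_isFixedPt.2 hq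
      simp only [m, pow_one]
      split_ifs with h
      · have := (hc q.out.out⁻¹ (by simpa using (fx _ _).1 hq)).resolve_left
          (by rw [inv_inv]; exact h.2)
        rw [← mul_right_inj (π ⟨x, hx⟩), ← sq, x2, ← map_mul, hπ]
        simpa using this
      · exact (hπ _).2 (not_not.1 fun h' => h ⟨hq, h'⟩)
    · have m : Function.minimalPeriod (x • ·) q.out = 2 :=
        Function.minimalPeriod_eq_prime (by
          change x • x • q.out = q.out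
          rw [smul_smul, hxx, one_smul]) hq
      rw [if_neg fun h => hq h.1, hπ]
      simp [m, sq, hxx]
  have c1 : (Finset.univ.filter fun q : Quotient (MulAction.orbitRel (zpowers x) (G ⧸ S)) =>
      q.out ∈ X1).card = X1.ncard := by
    rw [← Set.ncard_coe_finset]
    refine Set.ncard_congr (fun q _ => q.out) (fun q hq => by simpa using hq)
      (fun a b _ _ e => Quotient.out_injective e) fun q hq => ?_
    have e : (Quotient.mk (MulAction.orbitRel (zpowers x) (G ⧸ S)) q).out = q := by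
      obtain ⟨⟨k, hk⟩, e⟩ := Quotient.mk_out (s := MulAction.orbitRel (zpowers x) (G ⧸ S)) q
      exact e.symm.trans (zpowers_le.2 (MulAction.mem_stabilizer_iff.2 hq.1) hk)
    exact ⟨_, by simpa [e] using hq, e⟩
  have o2 : orderOf (π ⟨x, hx⟩) = 2 := orderOf_eq_prime x2 fun e => hx0 ((hπ _).1 e)
  have e1 : 2 ∣ X1.ncard := by rw [← c1, ← o2]; exact orderOf_dvd_of_pow_eq_one t1
  have e2 := fix_modEq (j := 1) (g := x) (by rw [pow_one, sq, hxx]) (Set.univ : Set (G ⧸ S))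
    fun _ _ => trivial
  have e3 : X0.ncard + X1.ncard = {q : G ⧸ S | x • q = q}.ncard := by
    rw [add_comm]
    exact Set.ncard_sdiff_add_ncard_of_subset fun q hq => (fx _ _).2 (h0 hq)
  rw [index_eq_card, Nat.odd_iff] at hS
  rw [Set.univ_inter, Set.ncard_univ, ← e3] at e2
  change Odd X0.ncard
  unfold Nat.ModEq at e2
  rw [Nat.odd_iff]
  omega

theorem syl_sub {S L : Subgroup G} (h : Syl S L) : Syl (S.subgroupOf L) ⊤ := by
  have e : Nat.card (S.subgroupOf L) = Nat.card S := Nat.card_congr (subgroupOfEquivOfLe h.le).toEquiv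
  refine ⟨h.pg.comap_subtype, le_top, ?_⟩
  rw [e, card_top]
  exact h.odd

theorem odd_index {S : Subgroup G} (h : Syl S ⊤) : Odd S.index := by
  obtain ⟨m, hm, e⟩ := h.odd
  rw [card_top, ← S.card_mul_index] at e
  rwa [Nat.eq_of_mul_eq_mul_left Nat.card_pos e]

theorem decomp (X : Hyp G F) {S : Subgroup G} (hS : Syl S ⊤) (g : G) :
    ∃ l ∈ X.L, ∃ s ∈ S, g = l * s := by
  by_cases hg : g ∈ X.L
  · exact ⟨g, hg, 1, S.one_mem, (mul_one g).symm⟩
  have ht : X.t ∉ X.L := fun h => hg (X.L_top h ▸ mem_top g)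
  obtain ⟨c, -, hc⟩ := hS.conj (pg_zpowers (x := X.t) (k := 1) (by simp [sq, X.tt])) le_top
  have h1 := mem_cm.1 (hc (mem_zpowers _))
  have h2 : X.Ω (cj c⁻¹ X.t) := (X.Ω_cj _).2 X.Ω_t
  refine ⟨g * cj c⁻¹ X.t, (X.mul_mem_L ht).2 ⟨fun h => absurd h hg, fun h => absurd ((X.Ω_L h2).1 h) ht⟩,
    _, h1, by rw [mul_assoc, X.sqΩ h2, mul_one]⟩

end TRP

open TRP

/-- transfer in `L` with an operator `y` -/
theorem Hyp.trp (X : Hyp G F) {S S0 : Subgroup G} (hS : Syl S ⊤) (h0 : S0 ≤ S ⊓ X.L)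
    (hn : ∀ s ∈ S, ∀ x ∈ S0, cj s x ∈ S0)
    (hab : ∀ a ∈ S ⊓ X.L, ∀ b ∈ S ⊓ X.L, a * b * a⁻¹ * b⁻¹ ∈ S0) {x y : G} (hx : x ∈ S ⊓ X.L)
    (hx0 : x ∉ S0) (xx : x * x = 1) {j : ℕ} (hy : y ^ 2 ^ j = 1) (hxy : x * y = y * x)
    (hc : ∀ g ∈ X.L, cj g x ∈ S → cj g x ∈ S0 ∨ x * cj g x ∈ S0) :
    ∃ g ∈ X.L, cj g x ∈ S0 ∧ cj g y ∈ S := by
  classical
  have hperf : (⟨x, hx.2⟩ : X.L) ∈ commutator X.L := by
    have h1 := X.L_perf hx.2
    rw [← map_subtype_commutator] at h1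
    obtain ⟨u, hu, e⟩ := h1
    rwa [show (⟨x, hx.2⟩ : X.L) = u from Subtype.ext e.symm]
  have h := odd_count (S := (S ⊓ X.L).subgroupOf X.L) (S0 := S0.subgroupOf X.L)
    (odd_index (syl_sub (X.syl_L hS))) (fun a ha => h0 ha) (fun a ha b hb => hab a ha b hb)
    (x := ⟨x, hx.2⟩) hx hx0 (Subtype.ext xx) hperf fun g hg => hc g g.2 hg.1
  have n0 : ∀ u v : G, u⁻¹ * v ∈ S → u⁻¹ * x * u ∈ S0 → v⁻¹ * x * v ∈ S0 := fun u v huv hu => by
    have := hn _ (S.inv_mem huv) _ hu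
    convert this using 1
    simp only [cj]; group
  let X0 : Set (G ⧸ S) := {q | q.out⁻¹ * x * q.out ∈ S0}
  have om : ∀ u : G, u⁻¹ * (u : G ⧸ S).out ∈ S := fun u =>
    QuotientGroup.eq.1 (QuotientGroup.out_eq' _).symm
  have e : {q : X.L ⧸ (S ⊓ X.L).subgroupOf X.L |
      q.out⁻¹ * ⟨x, hx.2⟩ * q.out ∈ S0.subgroupOf X.L}.ncard = X0.ncard := by
    refine Set.ncard_congr (fun q _ => ((q.out : G) : G ⧸ S)) (fun q hq => n0 _ _ (om _) hq)
      (fun a b _ _ e => ?_) fun q hq => ?_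
    · rw [← QuotientGroup.out_eq' a, ← QuotientGroup.out_eq' b, QuotientGroup.eq]
      exact ⟨QuotientGroup.eq.1 e, (a.out⁻¹ * b.out).2⟩
    · obtain ⟨l, hl, s, hs, e⟩ := decomp X hS q.out
      have h1 : ((⟨l, hl⟩ : X.L)⁻¹ * ((⟨l, hl⟩ : X.L) : X.L ⧸ (S ⊓ X.L).subgroupOf X.L).out : X.L) ∈
          (S ⊓ X.L).subgroupOf X.L := QuotientGroup.eq.1 (QuotientGroup.out_eq' _).symm
      have h2 : q.out⁻¹ * (((⟨l, hl⟩ : X.L) : X.L ⧸ (S ⊓ X.L).subgroupOf X.L).out : G) ∈ S := by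
        have := S.mul_mem (S.inv_mem hs) h1.1
        rw [e]
        convert this using 1
        simp [mul_assoc]
      refine ⟨((⟨l, hl⟩ : X.L) : X.L ⧸ (S ⊓ X.L).subgroupOf X.L), n0 _ _ h2 hq, ?_⟩
      rw [← QuotientGroup.out_eq' q]
      exact (QuotientGroup.eq.2 h2).symm
  rw [e] at h
  have e5 := fix_modEq hy X0 fun q hq => by
    have m : (y * q.out)⁻¹ * (y • q).out ∈ S := by
      rw [← QuotientGroup.eq, QuotientGroup.out_eq']
      conv_rhs => rw [← QuotientGroup.out_eq' q]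
      rfl
    refine n0 _ _ m ?_
    have : (y * q.out)⁻¹ * x * (y * q.out) = q.out⁻¹ * x * q.out := by
      calc _ = q.out⁻¹ * y⁻¹ * (x * y) * q.out := by group
        _ = _ := by rw [hxy]; group
    rw [this]; exact hq
  obtain ⟨q, hq⟩ : (X0 ∩ {a | y • a = a}).Nonempty := Set.nonempty_of_ncard_ne_zero fun e => by
    unfold Nat.ModEq at e5
    rw [Nat.odd_iff] at h
    omega
  obtain ⟨l, hl, s, hs, e⟩ := decomp X hS q.out
  refine ⟨l⁻¹, X.L.inv_mem hl, ?_, ?_⟩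
  · have := hn s hs _ hq.1
    rw [e] at this
    convert this using 1
    simp only [cj]; group
  · have := cj_mem hs ((fix_iff _ _).1 hq.2)
    rw [e] at this
    convert this using 1
    simp only [cj]; group

/-- Thompson transfer in `L` -/
theorem Hyp.thL (X : Hyp G F) {S M : Subgroup G} (hS : Syl S X.L) (hM : M ≤ S)
    (hc : Nat.card S = 2 * Nat.card M) {x : G} (hx : x ∈ X.L) (xx : x * x = 1) :
    ∃ g ∈ X.L, cj g x ∈ M := by
  by_contra h
  refine transfer X.idx2L (t := ⟨x, hx⟩) (Subtype.ext xx) (H := M.subgroupOf X.L) (syl_sub hS) ?_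
    fun u hu hi => ?_
  · rw [Nat.card_congr (subgroupOfEquivOfLe hS.le).toEquiv,
      Nat.card_congr (subgroupOfEquivOfLe (hM.trans hS.le)).toEquiv, hc]
  · obtain ⟨g, rfl⟩ := isConj_iff_cj.1 hi
    exact h ⟨g, g.2, hu⟩

/-- Thompson transfer for `t` -/
theorem Hyp.thG (X : Hyp G F) (h : X.t ∈ X.L) {S M : Subgroup G} (hS : Syl S ⊤)
    (hc : Nat.card S = 2 * Nat.card M) : ∃ x ∈ M, X.Ω x := by
  by_contra h'
  exact transfer (X.idx2 h) X.tt hS hc fun u hu hi => h' ⟨u, hu, hi⟩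

/-- an involution of `L` is not isolated -/
theorem Hyp.zstL (X : Hyp G F) {S : Subgroup G} (hS : Syl S X.L) {z : G} (hz : z ∈ S)
    (zz : z * z = 1) (z1 : z ≠ 1) : ∃ g ∈ X.L, cj g z ∈ S ∧ cj g z ≠ z := by
  by_contra h
  have h' : ∀ g ∈ X.L, cj g z ∈ S → cj g z = z := fun g hg h1 => by
    by_contra h2; exact h ⟨g, hg, h1, h2⟩
  haveI : Fact (Nat.Prime 2) := ⟨Nat.prime_two⟩
  have hzL := hS.le hz
  have S1 : Syl S (X.L ⊓ centralizer {z}) :=
    hS.mono (fun s hs => ⟨hS.le hs, mem_cen.2 (h' s (hS.le hs) (cj_mem hs hz))⟩) inf_le_left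
  have key : ∀ g ∈ X.L, cj (cj g z) z = z → cj g z = z := fun g hg e => by
    obtain ⟨c, hc, h1⟩ := S1.conj (pg_zpowers (x := cj g z) (k := 1) (by simp [sq, cj_sq zz]))
      (zpowers_le.2 ⟨cj_mem hg hzL, mem_cen.2 e⟩)
    have h2 := mem_cm.1 (h1 (mem_zpowers _))
    rw [← mul_cj] at h2
    have h3 := h' _ (X.L.mul_mem (X.L.inv_mem hc.1) hg) h2
    rw [mul_cj, inv_cj_eq, mem_cen.1 hc.2] at h3
    exact h3.symm
  have hO : Cfsg.oddCore X.L = ⊥ := by
    haveI := X.simple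
    refine (inferInstance : (Cfsg.pPrimeCore 2 X.L).Normal).eq_bot_or_eq_top.resolve_right fun e => ?_
    have := H1.coprime_orderOf_of_mem_pPrimeCore (p := 2) (x := (⟨z, hzL⟩ : X.L)) (e ▸ mem_top _)
    rw [orderOf_eq_prime (p := 2) (Subtype.ext (by simpa [sq] using zz))
      fun e => z1 (congrArg Subtype.val e)] at this
    simp at this
  refine z1 (X.cen z fun g hg => ?_)
  have h1 := H34.zstar_of_commute (G := X.L) (x := ⟨z, hzL⟩)
    (H35.isPElt_of_pow_eq_one (k := 1) (Subtype.ext (by simpa [sq] using zz)))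
    (fun g e => Subtype.ext (key g g.2 (cj_eq_iff.2 (congrArg Subtype.val e.eq).symm))) ⟨g, hg⟩
  rw [hO, mem_bot] at h1
  exact mul_inv_eq_one.1 (congrArg Subtype.val h1)

/-- Burnside's fusion lemma -/
theorem burn {S N : Subgroup G} (hS : Syl S N) {x g : G} (hg : g ∈ N) (h1 : ∀ s ∈ S, cj s x = x)
    (h2 : ∀ s ∈ S, cj s (cj g x) = cj g x) :
    ∃ k ∈ N, k ∈ normalizer (S : Set G) ∧ cj k x = cj g x := by
  have S1 : Syl S (N ⊓ centralizer {cj g x}) :=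
    hS.mono (fun s hs => ⟨hS.le hs, mem_cen.2 (h2 s hs)⟩) inf_le_left
  obtain ⟨c, hc, h⟩ := S1.conj (pg_cm hS.pg g) fun u hu => by
    have h3 := mem_cm.1 hu
    rw [← cj_inv_cj g u]
    exact ⟨cj_mem hg (hS.le h3), mem_cen.2 (by rw [cj_cj, h1 _ h3])⟩
  refine ⟨c⁻¹ * g, N.mul_mem (N.inv_mem hc.1) hg, mem_norm.2 fun s hs => ?_, ?_⟩
  · rw [mul_cj]; exact mem_cm.1 (h (cj_mem_cm.2 hs))
  · rw [mul_cj, inv_cj_eq]; exact mem_cen.1 hc.2

/-- moving a `2`-subgroup of a centraliser into `S` -/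
theorem move {S N P : Subgroup G} {z g : G} (h : Syl (S ⊓ centralizer {z}) (N ⊓ centralizer {z}))
    (hg : g ∈ N) (hP : IsPGroup 2 P) (hPN : P ≤ N) (hc : ∀ x ∈ P, cj x (cj g z) = cj g z) :
    ∃ k ∈ N, cj k (cj g z) = z ∧ ∀ x ∈ P, cj k x ∈ S := by
  obtain ⟨c, hc', h1⟩ := h.conj (pg_cm hP g⁻¹) fun u hu => by
    have h3 := mem_cm.1 hu
    rw [inv_inv] at h3
    refine ⟨?_, mem_cen.2 (cj_inj g ?_)⟩
    · rw [← inv_cj_cj g u]; exact cj_mem (N.inv_mem hg) (hPN h3)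
    · rw [← cj_cj, hc _ h3]
  refine ⟨c⁻¹ * g⁻¹, N.mul_mem (N.inv_mem hc'.1) (N.inv_mem hg), ?_, fun x hx => ?_⟩
  · rw [mul_cj, inv_cj_cj, inv_cj_eq]; exact mem_cen.1 hc'.2
  · rw [mul_cj]; exact (mem_cm.1 (h1 (cj_mem_cm.2 hx))).1

/-- extremal conjugates -/
theorem extremal {S N P : Subgroup G} (hS : Syl S N) {x : G} (hx : x ∈ S) (hP : IsPGroup 2 P)
    (hPN : P ≤ N) (hc : ∀ r ∈ P, cj r x = x) : ∃ k ∈ N, cj k x ∈ S ∧ (∀ r ∈ P, cj k r ∈ S) ∧
      Syl (S ⊓ centralizer {cj k x}) (N ⊓ centralizer {cj k x}) := by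
  obtain ⟨R, hPR, hR⟩ := exists_syl (H := N ⊓ centralizer {x}) hP
    fun r hr => ⟨hPN hr, mem_cen.2 (hc r hr)⟩
  have hxR : x ∈ R := by
    obtain ⟨j, hj⟩ := pg_pow hS.pg hx
    refine hR.normal_le (pg_zpowers hj) (zpowers_le.2 ⟨hS.le hx, mem_cen.2 (cj_eq_iff.2 rfl)⟩)
      (fun h hh u hu => ?_) (mem_zpowers x)
    obtain ⟨i, rfl⟩ := hu
    refine ⟨i, ?_⟩
    have := mem_cen.1 hh.2
    simp only [cj] at this ⊢
    rw [← conj_zpow, this]
  obtain ⟨c, hc', h1⟩ := hS.conj hR.pg (hR.le.trans inf_le_left)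
  have h2 : ∀ r ∈ R, cj c⁻¹ r ∈ S := fun r hr => mem_cm.1 (h1 hr)
  refine ⟨c⁻¹, N.inv_mem hc', h2 x hxR, fun r hr => h2 r (hPR hr), ?_⟩
  have e : cm c⁻¹ (N ⊓ centralizer {x}) = N ⊓ centralizer {cj c⁻¹ x} := by
    ext u
    rw [mem_cm, inv_inv, mem_inf, mem_inf, mem_cen, mem_cen]
    refine and_congr ⟨fun h => ?_, cj_mem hc'⟩ ?_
    · rw [← inv_cj_cj c u]; exact cj_mem (N.inv_mem hc') h
    · rw [← (cj_inj c).eq_iff (a := cj u _), ← cj_cj, cj_inv_cj]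
  have S1 := hR.cm c⁻¹
  rw [e] at S1
  rw [S1.eq_of_le (X := S ⊓ centralizer {cj c⁻¹ x}) (pg_le hS.pg inf_le_left)
    (inf_le_inf_right _ hS.le) fun u hu => ⟨?_, (S1.le hu).2⟩]
  · exact S1
  · rw [← cj_inv_cj c⁻¹ u]; exact h2 _ (mem_cm.1 hu)

/-- a four-group acting on a group of odd order -/
theorem four_gen {O K : Subgroup G} (hO : Odd (Nat.card O)) {a b : G} (p : H29.IsPair a b)
    (ha : ∀ x ∈ O, cj a x ∈ O) (hb : ∀ x ∈ O, cj b x ∈ O) (h1 : ∀ x ∈ O, cj a x = x → x ∈ K)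
    (h2 : ∀ x ∈ O, cj b x = x → x ∈ K) (h3 : ∀ x ∈ O, cj (a * b) x = x → x ∈ K) : O ≤ K := by
  have hV := p.isKleinFour
  refine H2.le_of_forall_centralizer_le (A := closure ({a, b} : Set G)) hV.isMulCommutative
    hV.not_isCyclic ?_ ?_ fun c hc c1 x hx => ?_
  · rw [closure_le]; rintro x (rfl | rfl)
    exacts [mem_norm.2 ha, mem_norm.2 hb]
  · rw [hV.card_four]
    exact (Nat.Coprime.pow_right 2 (Nat.coprime_two_right.2 hO)).symm
  · have := cj_comm.1 (mem_cen.1 hx.2)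
    rcases p.mem_closure.1 hc with rfl | rfl | rfl | rfl
    exacts [absurd rfl c1, h1 x hx.1 this, h2 x hx.1 this, h3 x hx.1 this]

/-- the Brauer-Wielandt formula -/
theorem four_card {O : Subgroup G} (hO : Odd (Nat.card O)) {a b : G} (p : H29.IsPair a b)
    (ha : ∀ x ∈ O, cj a x ∈ O) (hb : ∀ x ∈ O, cj b x ∈ O) :
    Nat.card O * Nat.card (O ⊓ centralizer {a} ⊓ centralizer {b} : Subgroup G) ^ 2 =
      Nat.card (O ⊓ centralizer {a} : Subgroup G) * Nat.card (O ⊓ centralizer {b} : Subgroup G) *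
        Nat.card (O ⊓ centralizer {a * b} : Subgroup G) :=
  H24.ZD.card_four p.sq₁ p.sq₂ p.comm p.ne₁ p.ne₂ p.ne hO (mem_norm.2 ha) (mem_norm.2 hb)

end H79.JO
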