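import Cfsg.Agent.Lib.JO.GenA
import Cfsg.Agent.Lib.JO.Bool
import Cfsg.Agent.Lib.JO.End
import Cfsg.Agent.Lib.JO.Trp

set_option autoImplicit false
set_option linter.unusedSectionVars false

namespace H79.JO

open Subgroup H4.YM H4.TL Matrix MatrixGroups GA
open H25.L2B (fix_sq fix_trace aut_comm aut_inv_uniq syl_iff WrD Lie2 Eight)

variable {G : Type*} [Group G] [Finite G] {F : Type*} [Field F] [Finite F]

namespace GM

variable {X : Fr G F} {A Y : Subgroup G} {b : G → F}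

theorem T1_same (P : X.Pure) {u w : G} (hu : u ∈ adj (zpowers X.f) X.t)
    (hw : w ∈ adj (zpowers X.f) X.t) (h : ∀ a, cj u (X.v a) = cj w (X.v a)) : u = w ∨ u = w * X.t :=
  (T1_triv P (mul_mem (inv_mem hw) hu) fun a => by rw [mul_cj, h, inv_cj_cj]).imp
    (fun e => (inv_mul_eq_one.1 e).symm) inv_mul_eq_iff_eq_mul.1

theorem four (h2 : (2 : F) = 0) (h : Nat.card F = 4) :
    ∃ ω : Fˣ, (ω : F) ≠ 1 ∧ (ω : F) * ω = 1 + ω ∧ ∀ a : F, a = 0 ∨ a = 1 ∨ a = ω ∨ a = 1 + ω := by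
  classical
  have := Fintype.ofFinite F
  rw [Nat.card_eq_fintype_card] at h
  obtain ⟨w, hw⟩ : ∃ w : F, w ∉ ({0, 1} : Finset F) := by
    by_contra! e
    have := (Finset.card_le_card fun w (_ : w ∈ Finset.univ) => e w).trans Finset.card_le_two
    rw [Finset.card_univ] at this
    omega
  simp only [Finset.mem_insert, Finset.mem_singleton, not_or] at hw
  have k : ∀ a : F, a = 0 ∨ a = 1 ∨ a = w ∨ a = 1 + w := fun a => by
    have : ({0, 1, w, 1 + w} : Finset F) = Finset.univ := Finset.eq_univ_of_card _ (by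
      rw [h, Finset.card_eq_four]
      exact ⟨0, 1, w, 1 + w, zero_ne_one, Ne.symm hw.1,
        fun e => hw.2 (by linear_combination -e - h2),
        Ne.symm hw.2, fun e => hw.1 (by linear_combination -e),
        fun e => one_ne_zero (α := F) (by linear_combination -e), rfl⟩)
    simpa using this.ge (Finset.mem_univ a)
  refine ⟨Units.mk0 w hw.1, hw.2, ?_, k⟩
  rcases k (w * w) with e | e | e | e
  · exact absurd (mul_self_eq_zero.1 e) hw.1
  · exact absurd (sub_eq_zero.1 (mul_self_eq_zero.1 (show (w - 1) * (w - 1) = 0 by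
      linear_combination e + (1 - w) * h2))) hw.2
  · exact absurd (mul_left_cancel₀ hw.1 (e.trans (mul_one w).symm)) hw.2
  · exact e

variable (D : X.Tow A Y b)
include D

theorem T1Y {u y : G} (hu : u ∈ adj (zpowers X.f) X.t) (hy : y ∈ Y) : cj u y ∈ Y :=
  mem_norm.1 (D.T_nY (T1_le X hu)) y hy

theorem sq_u {u y : G} (hu : u ∈ adj (zpowers X.f) X.t) (hy : y ∈ Y) (h : y * u * (y * u) = 1) :
    u * u = 1 := D.Y_T1 (mul_mem hu hu) ((mul_mem_cancel_left (mul_mem hy (T1Y D hu hy))).1 (by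
  rw [show y * cj u y * (u * u) = y * u * (y * u) by simp only [cj]; group, h]; exact one_mem _))

theorem b_h (k : Fˣ) {y : G} (hy : y ∈ Y) : b (cj (X.h k) y) = k * b y :=
  X.v_inj (by rw [D.b_cj _ (X.h_N1 k) y hy, X.h_v])

theorem b_inv {y : G} (hy : y ∈ Y) : b y⁻¹ = b y := by
  have := D.b_mul _ (inv_mem hy) _ hy
  rw [inv_mul_cancel, (D.b_ker 1 (one_mem _)).2 (one_mem _)] at this
  linear_combination -this - b y * X.char

theorem b_eq {x y : G} (hx : x ∈ Y) (hy : y ∈ Y) (h : b x = b y) : x⁻¹ * y ∈ A :=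
  (D.b_ker _ (mul_mem (inv_mem hx) hy)).1 (by
    rw [D.b_mul _ (inv_mem hx) _ hy, b_inv D hx, h]; linear_combination b y * X.char)

theorem b_comm {x y : G} (hx : x ∈ Y) (hy : y ∈ Y) : x * y * x⁻¹ * y⁻¹ ∈ A :=
  (D.b_ker _ (mul_mem (mul_mem (mul_mem hx hy) (inv_mem hx)) (inv_mem hy))).1 (by
    rw [D.b_mul _ (mul_mem (mul_mem hx hy) (inv_mem hx)) _ (inv_mem hy),
      D.b_mul _ (mul_mem hx hy) _ (inv_mem hx), D.b_mul _ hx _ hy, b_inv D hx, b_inv D hy]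
    linear_combination (b x + b y) * X.char)

theorem Vc {x y : G} (hx : x ∈ X.V) (hy : y ∈ Y) : y * x = x * y := by
  obtain ⟨a, rfl⟩ := X.mem_V.1 hx
  exact cj_eq_iff.1 (D.YV y hy a)

theorem caseA (h : ∀ s ∈ Y ⊔ X.T, X.Ω s → s ∈ adj A X.t) : Lie2 X.L := by
  have QS : adj A X.t ≤ Y ⊔ X.T :=
    adj_le (D.AY.trans le_sup_left) (mem_sup_right (X.E_le_T self_mem_adj))
  have tS := QS self_mem_adj
  have hS : Syl (Y ⊔ X.T) ⊤ := by
    refine (D.sylS.mono le_normalizer fun g hg => mem_norm.2 ?_).top_of_norm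
    have k : ∀ s ∈ Y ⊔ X.T, X.Ω s → cj g s ∈ adj A X.t := fun s h1 h2 =>
      h _ (mem_norm.1 hg s h1) ((X.Ω_cj g).2 h2)
    refine adj_le_comap (fun a ha => ?_) (k _ tS X.Ω_t)
    rw [← X.ttu a, cj_mul]
    exact mul_mem (k _ tS X.Ω_t) (k _ (mul_mem tS (QS (le_adj ha))) (D.Ω a ha))
  have YS : Y ≤ (Y ⊔ X.T) ⊓ X.L := le_inf le_sup_left D.YL
  have trp := @Hyp.trp G _ _ F _ _ X.toHyp _ _ hS YS
    (fun s hs => mem_norm.1 (sup_le le_normalizer D.T_nY hs)) fun a ha b hb => D.S_comm ha.1 hb.1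
  have ΩS : ∀ g, cj g X.t ∈ Y ⊔ X.T → ∃ a ∈ A, cj g X.t = X.t * a := fun g hg =>
    D.memtA (h _ hg ((X.Ω_cj g).2 X.Ω_t)) ((X.Ω_cj g).2 X.Ω_t)
  by_cases tL : X.t ∈ X.L
  · obtain ⟨g, -, h1, -⟩ := trp ⟨tS, tL⟩ (fun e => D.nΩ _ e X.Ω_t) X.tt (y := 1) (j := 0) (by simp)
      (by simp) fun g _ hg => Or.inr (by
        obtain ⟨a, ha, e⟩ := ΩS g hg
        rw [e, X.ttu]; exact D.AY ha)
    exact absurd ((X.Ω_cj g).2 X.Ω_t) (D.nΩ _ h1)
  by_cases hf : ∃ u ∈ adj (zpowers X.f) X.t, u ∈ X.L ∧ u * u = 1 ∧ u ≠ 1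
  · obtain ⟨u, hu, uL, -, u1⟩ := hf
    exact absurd (((D.toPure.T1_two hu).resolve_left u1) ▸ uL) tL
  have e : (Y ⊔ X.T) ⊓ X.L = Y := le_antisymm (fun x hx => by
    obtain ⟨y, hy, w, hw, rfl⟩ := D.mem_S.1 hx.1
    by_contra e
    obtain ⟨z, hz, z1, z2, -⟩ := exists_central (pg_le X.pgT ((inf_le_left : _ ⊓ X.L ≤ _).trans
      (T1_le X))) fun e1 => e (by
        rwa [mem_bot.1 (e1.le ⟨hw, (mul_mem_cancel_left (D.YL hy)).1 hx.2⟩), mul_one])
    exact hf ⟨z, hz.1, hz.2, z1, z2⟩) YS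
  have sL := X.syl_L hS
  rw [e] at sL
  have c16 : 16 ≤ Nat.card Y := by
    have := card_le_of_le D.VA
    rw [X.card_V] at this
    rw [D.cardY]
    exact Nat.mul_le_mul X.four (X.four.trans this)
  have V0 : X.V ≠ ⊥ := fun e => one_ne_zero (X.v_eq_one.1 (e.le (X.v_mem_V 1)))
  have Vsq : ∀ a ∈ X.V, a * a = 1 := fun a ha => X.E_sq (le_adj ha)
  rcases D.bool with k | k
  · exact X.lie_of_elem sL c16 (D.VA.trans D.AY) V0 Vsq fun g _ w hw h1 =>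
      k _ h1 (cj_sq (Vsq w hw))
  refine X.lie_of_closed sL c16 le_rfl (ne_bot_of_le_ne_bot V0 (D.VA.trans D.AY))
    (fun a ha b hb c hc => cj_eq_iff.2 (Vc D ?_ hc)) fun _ _ _ _ h1 => h1
  rw [show a * b * a⁻¹ * b⁻¹ = a * b * (a * b) * (b⁻¹ * (a⁻¹ * a⁻¹)) * b⁻¹ by group,
    Vc D (k _ (inv_mem ha)) (inv_mem hb), ← mul_assoc, mul_assoc _ b⁻¹]
  exact mul_mem (mul_mem (k _ (mul_mem ha hb)) (k _ (inv_mem ha))) (k _ (inv_mem hb))

end GM

open GM

theorem Fr.Tow.main {X : Fr G F} {A Y : Subgroup G} {b : G → F} (D : X.Tow A Y b) : Lie2 X.L := by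
  refine caseA D fun s hs hΩ => ?_
  obtain ⟨y, hy, u, hu, rfl⟩ := D.mem_S.1 hs
  rcases D.toPure.T1_two hu with rfl | rfl
  · exact absurd hΩ (D.nΩ _ (by rwa [mul_one]))
  · have := D.ΩA y hy ((X.Ω_cj X.t).1 (by
      rwa [cj, X.tinv, ← mul_assoc, X.tt, one_mul]))
    exact mul_mem (le_adj this) self_mem_adj

end H79.JO
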