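import Cfsg.Agent.Lib.JO.NrC
import Cfsg.Agent.Lib.H81.G2S

/-! The case `q = 8`, `A = V`: fusion of involutions and the shape of the Sylow subgroup (helper2) -/

set_option autoImplicit false

namespace H79.JO

open Subgroup H4.YM H4.TL Matrix MatrixGroups
open H25.L2B (fix_sq fix_trace aut_comm aut_inv_uniq syl_iff WrD Lie2 Eight)

variable {G : Type*} [Group G] [Finite G] {F : Type*} [Field F] [Finite F]

namespace Nr1

/-- a basis `z w u` of a group of order eight and two transvections -/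
structure Bz (z w u e v : G) : Prop where
  zz : z * z = 1
  ww : w * w = 1
  uu : u * u = 1
  wz : w * z = z * w
  uz : u * z = z * u
  uw : u * w = w * u
  ee : e * e = 1
  vv : v * v = 1
  ez : e * z = z * e
  ew : e * w = w * e
  eu : e * u = w * (u * e)
  vz : v * z = z * v
  vw : v * w = z * (w * v)
  vu : v * u = u * v

omit [Finite G]

theorem tl {a b c : G} (h : a * b = c) (x : G) : a * (b * x) = c * x := by rw [← mul_assoc, h]

theorem zpar {x : G} (h : x * x = 1) (i : ℤ) : x ^ (2 * i) = 1 := by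
  rw [_root_.zpow_mul, zpow_two, h, _root_.one_zpow]

theorem four {a b : G} (aa : a * a = 1) (bb : b * b = 1) (ab : b * a = a * b) {x : G} (hx : x ∈ closure {a, b}) :
    x = 1 ∨ x = a ∨ x = b ∨ x = a * b := by
  induction hx using closure_induction with
  | mem x hx => rcases hx with rfl | rfl <;> simp
  | one => simp
  | mul x y _ _ p q =>
    rcases p with rfl | rfl | rfl | rfl <;> rcases q with rfl | rfl | rfl | rfl <;>
      simp [mul_assoc, aa, bb, ab, tl aa, tl bb, tl ab]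
  | inv x _ p =>
    rcases p with rfl | rfl | rfl | rfl <;>
      simp [inv_eq_of_mul_eq_one_right aa, inv_eq_of_mul_eq_one_right bb, ab]

theorem card4 {a b : G} (aa : a * a = 1) (bb : b * b = 1) (ab : b * a = a * b) {V : Subgroup G}
    (l : V ≤ closure {a, b}) : Nat.card V ≤ 4 :=
  (Set.ncard_le_ncard (t := {1, a, b, a * b}) fun _ hx => four aa bb ab (l hx)).trans
    ((Set.ncard_insert_le _ _).trans (Nat.succ_le_succ ((Set.ncard_insert_le _ _).trans (Nat.succ_le_succ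
      ((Set.ncard_insert_le _ _).trans (by simp))))))

namespace Bz

variable {z w u e v : G} (h : Bz z w u e v)
include h

theorem eight {x : G} (hx : x ∈ closure {z, w, u}) : ∃ y, (y = 1 ∨ y = z ∨ y = w ∨ y = z * w) ∧ (x = y ∨ x = y * u) := by
  have c : ∀ y ∈ closure {z, w}, u * y = y * u := fun y hy => by
    rcases four h.zz h.ww h.wz hy with rfl | rfl | rfl | rfl <;> simp [mul_assoc, h.uz, h.uw, tl h.uz]
  have : x ∈ adj (closure {z, w}) u := (closure_le _).2 (by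
    rintro _ (rfl | rfl | rfl)
    exacts [le_adj (subset_closure (by simp)), le_adj (subset_closure (by simp)), self_mem_adj]) hx
  rcases (mem_adj (fun k hk => by rwa [cj_eq_iff.2 (c k hk)]) (h.uu ▸ one_mem _)).1 this with m | m
  · exact ⟨x, four h.zz h.ww h.wz m, .inl rfl⟩
  · exact ⟨_, four h.zz h.ww h.wz m, .inr (by rw [← c _ m, mul_inv_cancel_left])⟩

/-- the rewriting system -/
theorem rs :
    z⁻¹ = z ∧ w⁻¹ = w ∧ u⁻¹ = u ∧ e⁻¹ = e ∧ v⁻¹ = v ∧ z * z = 1 ∧ w * w = 1 ∧ u * u = 1 ∧ w * z = z * w ∧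
    u * z = z * u ∧ u * w = w * u ∧ e * e = 1 ∧ v * v = 1 ∧ e * z = z * e ∧ e * w = w * e ∧
    e * u = w * (u * e) ∧ v * z = z * v ∧ v * w = z * (w * v) ∧ v * u = u * v ∧ (∀ x, z * (z * x) = 1 * x) ∧
    (∀ x, w * (w * x) = 1 * x) ∧ (∀ x, u * (u * x) = 1 * x) ∧ (∀ x, w * (z * x) = z * w * x) ∧
    (∀ x, u * (z * x) = z * u * x) ∧ (∀ x, u * (w * x) = w * u * x) ∧ (∀ x, e * (e * x) = 1 * x) ∧
    (∀ x, v * (v * x) = 1 * x) ∧ (∀ x, e * (z * x) = z * e * x) ∧ (∀ x, e * (w * x) = w * e * x) ∧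
    (∀ x, e * (u * x) = w * (u * e) * x) ∧ (∀ x, v * (z * x) = z * v * x) ∧
    (∀ x, v * (w * x) = z * (w * v) * x) ∧ (∀ x, v * (u * x) = u * v * x) ∧ (∀ a b : G, cj a b = a * b * a⁻¹) ∧
    (∀ a b c : G, a * b * c = a * (b * c)) ∧ (∀ a b : G, (a * b)⁻¹ = b⁻¹ * a⁻¹) ∧ (∀ a : G, 1 * a = a) ∧
    ∀ a : G, a * 1 = a :=
  ⟨inv_eq_of_mul_eq_one_right h.zz, inv_eq_of_mul_eq_one_right h.ww, inv_eq_of_mul_eq_one_right h.uu,
    inv_eq_of_mul_eq_one_right h.ee, inv_eq_of_mul_eq_one_right h.vv, h.zz, h.ww, h.uu, h.wz, h.uz, h.uw, h.ee,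
    h.vv, h.ez, h.ew, h.eu, h.vz, h.vw, h.vu, tl h.zz, tl h.ww, tl h.uu, tl h.wz, tl h.uz, tl h.uw, tl h.ee,
    tl h.vv, tl h.ez, tl h.ew, tl h.eu, tl h.vz, tl h.vw, tl h.vu, fun _ _ => rfl, mul_assoc,
    _root_.mul_inv_rev, one_mul, mul_one⟩

theorem fix (z1 : z ≠ 1) (w1 : w ≠ 1) {x : G} (hx : x ∈ closure {z, w, u}) (h1 : e * x = x * e)
    (h2 : v * x = x * v) : x = 1 ∨ x = z := by
  obtain ⟨y, hy, rfl | rfl⟩ := h.eight hx
  · rcases hy with rfl | rfl | rfl | rfl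
    · exact .inl rfl
    · exact .inr rfl
    · exact (z1 (by simpa [h.vw] using h2)).elim
    · exact (z1 (by simpa [mul_assoc, tl h.vz, h.vw] using h2)).elim
  · refine (w1 ?_).elim
    rcases hy with rfl | rfl | rfl | rfl <;> simpa [mul_assoc, tl h.ez, tl h.ew, h.eu] using h1

theorem gw : cj (cj v e * e * (cj v e * e)) z = z ∧ cj (cj v e * e * (cj v e * e)) w = w ∧
    cj (cj v e * e * (cj v e * e)) u = u := by
  refine ⟨?_, ?_, ?_⟩ <;> simp only [h.rs]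

theorem gi : e * (cj v e * e * (cj v e * e)) = (cj v e * e * (cj v e * e))⁻¹ * e ∧
    v * (cj v e * e * (cj v e * e)) = (cj v e * e * (cj v e * e))⁻¹ * v := by
  refine ⟨?_, ?_⟩ <;> simp only [h.rs]

theorem acts : cj e w = w ∧ cj e u = u * w ∧ cj (cj v e) w = w ∧ cj (cj v e) u = u * (w * z) ∧
    cj (cj v e * e) w = w ∧ cj (cj v e * e) u = u * z ∧ cj v (w * z) = w ∧ cj v u = u ∧ cj v (u * z) = u * z ∧
    cj v (u * w) = u * (w * z) ∧ cj v (u * (w * z)) = u * w ∧ e * cj u e = w ∧ w * cj v w = z := by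
  refine ⟨?_, ?_, ?_, ?_, ?_, ?_, ?_, ?_, ?_, ?_, ?_, ?_, ?_⟩ <;> simp only [h.rs]

theorem comm (k : cj v e * e * (cj v e * e) = 1) : e * cj u e = cj u e * e ∧ e * cj v e = cj v e * e ∧
    e * cj (u * v) e = cj (u * v) e * e := by
  have k' : v * (e * (v * e)) = e * (v * (e * v)) := by
    rw [mul_eq_one_iff_eq_inv] at k
    revert k
    simp only [h.rs]
    exact id
  refine ⟨?_, ?_, ?_⟩ <;> simp only [h.rs] <;> rw [k']

theorem g2s (z1 : z ≠ 1) (w1 : w ≠ 1) (zw : z * w ≠ 1) (k : cj v e * e * (cj v e * e) = z) :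
    H81.G2S 2 (e * u) (cj v (e * u)) u v := by
  have k' : v * (e * (v * e)) = z * (e * (v * (e * v))) := by
    rw [← eq_mul_inv_iff_mul_eq] at k
    revert k
    simp only [h.rs]
    exact id
  have a2 : ∀ i : ℤ, (e * u) ^ (2 * i) = w ^ i := fun i => by
    rw [_root_.zpow_mul, zpow_two, show e * u * (e * u) = w by simp only [h.rs]]
  have b2 : ∀ i : ℤ, cj v (e * u) ^ (2 * i) = (z * w) ^ i := fun i => by
    rw [_root_.zpow_mul, zpow_two, show cj v (e * u) * cj v (e * u) = z * w by simp only [h.rs]]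
  have s2 : z * w * (z * w) = 1 := by simp only [h.rs]
  have cw : ∀ i : ℤ, cj (w ^ i) u = u := fun i => cj_eq_iff.2 (Commute.zpow_left h.uw.symm i)
  have cs : ∀ i : ℤ, ∀ x, x = u ∨ x = u * (z * w) → cj ((z * w) ^ i) x = x := fun i x hx =>
    cj_eq_iff.2 (Commute.zpow_left (show z * w * x = x * (z * w) by rcases hx with rfl | rfl <;> simp only [h.rs]) i)
  have cw' : ∀ i : ℤ, ∀ x, x = w ∨ x = z ∨ x = z * w → cj (w ^ i) (u * x) = u * x := fun i x hx =>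
    cj_eq_iff.2 (Commute.zpow_left (show w * (u * x) = u * x * w by rcases hx with rfl | rfl | rfl <;> simp only [h.rs]) i)
  refine ⟨le_rfl, by simp only [h.rs]; rw [k']; simp only [h.rs], fun i j => ⟨fun r => ?_, ?_⟩, by simp only [h.rs], by simp only [h.rs], rfl, h.uu, h.vv, h.vu.symm⟩
  · have r' := congrArg (cj · u) r
    simp only [one_cj] at r'
    rcases Int.even_or_odd' i with ⟨i, rfl | rfl⟩ <;> rcases Int.even_or_odd' j with ⟨j, rfl | rfl⟩ <;>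
      simp only [_root_.zpow_add, zpow_one, a2, b2, mul_cj] at r r'
    · rcases Int.even_or_odd' i with ⟨i, rfl | rfl⟩ <;> rcases Int.even_or_odd' j with ⟨j, rfl | rfl⟩ <;>
        simp only [_root_.zpow_add, zpow_one, zpar h.ww, zpar s2, one_mul, mul_one] at r
      · exact ⟨⟨i, by ring⟩, j, by ring⟩
      · exact (zw r).elim
      · exact (w1 r).elim
      · exact (z1 (by rw [← r]; simp only [h.rs])).elim
    · rw [show cj (cj v (e * u)) u = u * (z * w) by simp only [h.rs], cs _ _ (.inr rfl), cw' _ _ (.inr (.inr rfl))] at r'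
      exact (zw (mul_eq_left.1 r')).elim
    · rw [cs _ _ (.inl rfl), show cj e (cj u u) = u * w by simp only [h.rs], cw' _ _ (.inl rfl)] at r'
      exact (w1 (mul_eq_left.1 r')).elim
    · rw [show cj (cj v (e * u)) u = u * (z * w) by simp only [h.rs], cs _ _ (.inr rfl),
        show cj e (cj u (u * (z * w))) = u * z by simp only [h.rs], cw' _ _ (.inr (.inl rfl))] at r'
      exact (z1 (mul_eq_left.1 r')).elim
  · rintro ⟨⟨i, rfl⟩, j, rfl⟩
    rw [show (2 : ℤ) ^ 2 * i = 2 * (2 * i) by ring, show (2 : ℤ) ^ 2 * j = 2 * (2 * j) by ring, a2, b2, zpar h.ww,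
      zpar s2, one_mul]

end Bz

end Nr1

namespace Fr.NS

variable {X : Fr G F} {S : Subgroup G} {e : ℕ} (D : X.NS X.V e S)
include D

theorem n1_sq {x : G} (hx : x ∈ X.V) : x * x = 1 := X.E_sq (le_adj hx)

theorem n1_comm {x y : G} (hx : x ∈ X.V) (hy : y ∈ X.V) : x * y = y * x := D.comm hx hy

theorem n1_nV {g x : G} (hg : g ∈ S) (hx : x ∈ X.V) : cj g x ∈ X.V := D.NA (D.SM hg) hx

theorem n1_cen {g : G} (hg : g ∈ S) (h : ∀ u ∈ X.V, cj g u = u) : g ∈ X.V :=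
  (D.sylS.pg ⟨g, hg⟩).elim fun _ hj => D.cenM_two (D.SM hg) (D.sylS.le hg) h (congrArg Subtype.val hj)

theorem n1_EL {x : G} (hx : x ∈ X.E) (hL : x ∈ X.L) : x ∈ X.V := (X.iE.dich x hx).resolve_right fun m =>
  D.tL (inv_mem_iff.1 ((X.L.mul_mem_cancel_right hL).1 (D.A_le_L m)))

theorem n1_lift {f g : G} (h1 : f ∈ S) (h2 : f ∉ X.V) (ff : f * f = 1) (hg : g ∈ S)
    (gg : ∀ u ∈ X.V, cj (g * g) u = u) (ng : ¬ ∀ u ∈ X.V, cj g u = u) : ∃ m, ∃ x ∈ X.V, cj m f = g * x := by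
  obtain ⟨m, -, x, hx, r⟩ := D.lift rfl (D.SM h1) ff (fun c => h2 (D.n1_cen h1 c)) (D.SM hg)
    (le_adj (D.n1_cen (S.mul_mem hg hg) gg)) ng
  exact ⟨m, x, D.n1_EL hx ((X.L.mul_mem_cancel_left (D.sylS.le hg)).1 (r ▸ (X.L_cj m).2 (D.sylS.le h1))), r⟩

theorem n1_pow {x : G} (hx : x ∈ X.V) : x ^ e = x := by
  rcases Nat.even_or_odd' e with ⟨k, rfl | rfl⟩
  · obtain ⟨a, ha, rfl⟩ := D.eS x hx
    simp [pow_mul, pow_two, D.n1_sq ha]
  · rw [pow_succ, pow_mul, pow_two, D.n1_sq hx, one_pow, one_mul]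

theorem n1_coset {j x : G} (hj : j ∈ S) (jj : j * j = 1) (nj : j ∉ X.V) (hx : x ∈ X.V)
    (h : j * x * (j * x) = 1) : IsConj j (j * x) := by
  have ji : j⁻¹ = j := inv_eq_of_mul_eq_one_right jj
  have n : ¬ ∀ u ∈ X.V, cj j u = u := fun c => nj (D.n1_cen hj c)
  have j2 : ∀ u ∈ X.V, cj (j * j) u = u := fun u _ => by rw [jj, one_cj]
  obtain ⟨d, hd, -, -, ⟨u, hu, ud⟩, -, -, c4⟩ := e8_fix D.card8 (fun u hu => D.n1_sq hu) (fun u hu => D.n1_nV hj hu) j2 n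
  have hc := D.Nt (D.SM hj)
  have ci := inv_eq_of_mul_eq_one_right (D.n1_sq hc)
  have e1 : ∀ y ∈ X.V, cj u (j * y) = j * y * d := fun y hy => by
    rw [cj_mul, cj_eq_iff.2 (D.n1_comm hu hy), mul_assoc, D.n1_comm hy hd, ← mul_assoc, ← ud,
      D.n1_comm hu (D.n1_nV hj hu)]
    simp only [cj, ji, inv_eq_of_mul_eq_one_right (D.n1_sq hu), ← mul_assoc, jj, one_mul]
  have e2 : cj X.t j = j * (X.t * cj j X.t) := by
    rw [← ci]
    simp only [cj, ji, X.tinv, _root_.mul_inv_rev, ← mul_assoc, jj, one_mul]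
  rcases c4 _ hc (by rw [cj_mul, ← mul_cj, jj, one_cj, ← ci, _root_.mul_inv_rev, ← cj_inv, X.tinv])
    (fun r => n (D.nofix (D.SM hj) j2 (one_mem _) (by rw [r, one_pow, cj_one, mul_one])))
    (fun r => n (D.nofix (D.SM hj) j2 hu (by rw [D.n1_pow hc, r, ud]))) x hx (by
      rw [cj_eq_inv_of_sq jj h, inv_eq_of_mul_eq_one_right (D.n1_sq hx)]) with rfl | rfl | rfl | rfl
  · rw [mul_one]
  · exact isConj_iff_cj.2 ⟨u, by simpa using e1 1 (one_mem _)⟩
  · exact isConj_iff_cj.2 ⟨_, e2⟩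
  · exact isConj_iff_cj.2 ⟨u * X.t, by rw [mul_cj, e2, e1 _ hc, mul_assoc]⟩

theorem one {g w : G} (hg : g ∈ X.L) (hw : w ∈ X.V) (h1 : cj g w ∈ S) (h2 : cj g w ∉ X.V) :
    H25.L2B.One X.L := by
  have w1 : w ≠ 1 := fun r => h2 (by rw [r, cj_one]; exact one_mem _)
  have k : ∀ i ∈ X.L, i * i = 1 → i ≠ 1 → ∃ m ∈ X.L, cj m w = i := fun i hi ii i1 => by
    obtain ⟨l, -, hl⟩ := D.sylS.conj (IsPGroup.of_card (n := 1) (by
      rw [Nat.card_zpowers, orderOf_eq_prime ((pow_two i).trans ii) i1, pow_one])) (zpowers_le.2 hi)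
    have hj := mem_cm.1 (hl (mem_zpowers i))
    have jj := cj_sq (g := l⁻¹) ii
    have : IsConj w (cj l⁻¹ i) := by
      by_cases jV : cj l⁻¹ i ∈ X.V
      · exact isConj_iff_cj.2 ((D.transV hw w1 jV (mt cj_eq_one.1 i1)).elim fun _ r => ⟨_, r⟩)
      obtain ⟨m, x, hx, r⟩ := D.n1_lift h1 h2 (cj_sq (D.n1_sq hw)) hj (fun u _ => by rw [jj, one_cj])
        fun c => jV (D.n1_cen hj c)
      exact (isConj_iff_cj.2 ⟨_, (mul_cj _ _ _).trans r⟩).trans
        (D.n1_coset hj jj jV hx (r ▸ cj_sq (cj_sq (D.n1_sq hw)))).symm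
    obtain ⟨m, hm⟩ := isConj_iff_cj.1 ((isConj_cj _).1 this)
    rcases X.top m with r | r
    · exact ⟨m, r, hm⟩
    · obtain ⟨a, rfl⟩ := X.mem_V.1 hw
      exact ⟨m * X.t, by simpa [cj, mul_assoc] using (X.L_cj X.t⁻¹).2 r, by rw [mul_cj, X.t_v, hm]⟩
  intro i hi ii i1 j hj jj j1
  obtain ⟨m, hm, rfl⟩ := k i hi ii i1
  obtain ⟨n, hn, rfl⟩ := k j hj jj j1
  exact ⟨n * m⁻¹, X.L.mul_mem hn (inv_mem hm), by rw [mul_cj, inv_cj_cj]⟩

theorem shape {f : G} (h1 : f ∈ S) (h2 : f ∉ X.V) (ff : f * f = 1) :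
    (∃ a b u v : G, ∃ h : H81.G2S 2 a b u v, h.S = S) ∨ ∃ e x y, WrD S e x y := by
  obtain ⟨z, w, u, hV, act, ex⟩ := D.flag D.sylS.pg (fun g hg u hu => D.n1_nV hg hu) (by
    rw [D.card, show S ⊓ centralizer (X.V : Set G) = X.V from le_antisymm
      (fun g hg => D.n1_cen hg.1 fun u hu => cj_eq_iff.2 (hg.2 u hu).symm)
      (le_inf D.AS fun g hg u hu => D.n1_comm hu hg)])
  have hz : z ∈ X.V := hV ▸ subset_closure (by simp)
  have hw : w ∈ X.V := hV ▸ subset_closure (by simp)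
  have hu : u ∈ X.V := hV ▸ subset_closure (by simp)
  have sm : ∀ a ∈ X.V, ∀ b ∈ X.V, ¬ ({z, w, u} : Set G) ⊆ closure {a, b} := fun a ha b hb l => by
    have := Nr1.card4 (D.n1_sq ha) (D.n1_sq hb) (D.n1_comm hb ha) ((closure_le _).2 l)
    rw [hV, D.card8] at this
    omega
  have m1 : ∀ a b : G, a ∈ closure {a, b} := fun a b => subset_closure (by simp)
  have m2 : ∀ a b : G, b ∈ closure {a, b} := fun a b => subset_closure (by simp)
  have z1 : z ≠ 1 := fun r => sm w hw u hu (by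
    rintro _ (rfl | rfl | rfl)
    exacts [r ▸ one_mem _, m1 _ _, m2 _ _])
  have w1 : w ≠ 1 := fun r => sm z hz u hu (by
    rintro _ (rfl | rfl | rfl)
    exacts [m1 _ _, r ▸ one_mem _, m2 _ _])
  have zw : z * w ≠ 1 := fun r => sm z hz u hu (by
    rintro _ (rfl | rfl | rfl)
    exacts [m1 _ _, eq_inv_of_mul_eq_one_right r ▸ inv_mem (m1 _ _), m2 _ _])
  have tr : ∀ g, cj g z = z → cj g w = w → cj g u = u → ∀ x ∈ X.V, cj g x = x := fun g a b c x hx =>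
    cj_comm.1 (mem_cen.1 ((closure_le (centralizer {g})).2 (by
      rintro _ (rfl | rfl | rfl)
      exacts [mem_cen.2 (cj_comm.1 a), mem_cen.2 (cj_comm.1 b), mem_cen.2 (cj_comm.1 c)]) (hV.symm ▸ hx)))
  have li : ∀ g ∈ S, cj g (cj g w) = w → cj g (cj g u) = u → ¬ (cj g w = w ∧ cj g u = u) →
      ∃ k ∈ S, k * k = 1 ∧ ∀ x ∈ X.V, cj k x = cj g x := fun g hg a b n => by
    obtain ⟨m, x, hx, r⟩ := D.n1_lift h1 h2 ff hg (tr _ (act _ (S.mul_mem hg hg)).1 ((mul_cj _ _ _).trans a)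
      ((mul_cj _ _ _).trans b)) fun c => n ⟨c w hw, c u hu⟩
    exact ⟨g * x, S.mul_mem hg (D.AS hx), r ▸ cj_sq ff, fun y hy => by rw [mul_cj, cj_eq_iff.2 (D.n1_comm hx hy)]⟩
  obtain ⟨e0, he0, a1, a2⟩ := ex w (u * w) (.inl rfl) (.inr (.inr (.inl rfl)))
  obtain ⟨v0, hv0, b1, b2⟩ := ex (w * z) u (.inr rfl) (.inl rfl)
  obtain ⟨ε, hε, ee, a⟩ := li e0 he0 (by rw [a1, a1]) (by rw [a2, cj_mul, a1, a2, mul_assoc, D.n1_sq hw, mul_one])
    fun c => w1 (mul_eq_left.1 (a2.symm.trans c.2))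
  obtain ⟨v, hv, vv, b⟩ := li v0 hv0 (by rw [b1, cj_mul, b1, (act _ hv0).1, mul_assoc, D.n1_sq hz, mul_one])
    (by rw [b2, b2]) fun c => z1 (mul_eq_left.1 (b1.symm.trans c.1))
  have B : Nr1.Bz z w u ε v := ⟨D.n1_sq hz, D.n1_sq hw, D.n1_sq hu, D.n1_comm hw hz, D.n1_comm hu hz, D.n1_comm hu hw,
    ee, vv, cj_eq_iff.1 (act _ hε).1, cj_eq_iff.1 ((a w hw).trans a1), by
      rw [← mul_assoc, ← D.n1_comm hu hw, ← a2, ← a u hu, cj, inv_mul_cancel_right], cj_eq_iff.1 (act _ hv).1, by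
      rw [← mul_assoc, ← D.n1_comm hw hz, ← b1, ← b w hw, cj, inv_mul_cancel_right], cj_eq_iff.1 ((b u hu).trans b2)⟩
  have hg := S.mul_mem (cj_mem hv hε) hε
  have gV := D.n1_cen (S.mul_mem hg hg) (tr _ B.gw.1 B.gw.2.1 B.gw.2.2)
  have gi := inv_eq_of_mul_eq_one_right (D.n1_sq gV)
  rcases B.fix z1 w1 (hV.symm ▸ gV) (B.gi.1.trans (by rw [gi])) (B.gi.2.trans (by rw [gi])) with k | k
  · refine .inr ⟨ε, u, v, ee, B.uu, vv, B.vu.symm, (B.comm k).1, (B.comm k).2.1, (B.comm k).2.2,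
      le_antisymm ((closure_le _).2 (by
        rintro _ (rfl | rfl | rfl)
        exacts [hε, D.AS hu, hv])) fun g hg' => ?_⟩
    obtain ⟨c1, c2, c3, c4, c5, c6, c7, c8, c9, c10, c11, c12, c13⟩ := B.acts
    generalize hH : closure ({ε, u, v} : Set G) = H
    have eH : ε ∈ H := hH ▸ subset_closure (by simp)
    have uH : u ∈ H := hH ▸ subset_closure (by simp)
    have vH : v ∈ H := hH ▸ subset_closure (by simp)
    have wH : w ∈ H := c12 ▸ H.mul_mem eH (cj_mem uH eH)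
    have VH : X.V ≤ H := hV ▸ (closure_le _).2 (by
      rintro _ (rfl | rfl | rfl)
      exacts [c13 ▸ H.mul_mem wH (cj_mem vH wH), wH, uH])
    have same : ∀ g ∈ S, ∀ k ∈ S, k ∈ H → cj k w = cj g w → cj k u = cj g u → g ∈ H := fun g hg k hk kH p q =>
      (H.mul_mem_cancel_left (inv_mem kH)).1 (VH (D.n1_cen (S.mul_mem (inv_mem hk) hg)
        (tr _ (act _ (S.mul_mem (inv_mem hk) hg)).1 (by rw [mul_cj, ← p, inv_cj_cj]) (by rw [mul_cj, ← q, inv_cj_cj]))))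
    have fw : ∀ g ∈ S, cj g w = w → g ∈ H := fun g hg' p => by
      rcases (act g hg').2.2 with q | q | q | q
      · exact same g hg' 1 (one_mem _) (one_mem _) (by rw [one_cj, p]) (by rw [one_cj, q])
      · exact same g hg' _ hg (H.mul_mem (cj_mem vH eH) eH) (c5.trans p.symm) (c6.trans q.symm)
      · exact same g hg' _ hε eH (c1.trans p.symm) (c2.trans q.symm)
      · exact same g hg' _ (cj_mem hv hε) (cj_mem vH eH) (c3.trans p.symm) (c4.trans q.symm)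
    rcases (act g hg').2.1 with p | p
    · exact fw g hg' p
    · exact (H.mul_mem_cancel_left vH).1 (fw _ (S.mul_mem hv hg') (by rw [mul_cj, p, c7]))
  · exact .inl ⟨_, _, _, _, B.g2s z1 w1 zw k, ((B.g2s z1 w1 zw k).eq_S (S.mul_mem hε (D.AS hu)) (D.AS hu) hv
      (by rw [D.card, D.card8]; rfl)).symm⟩

end Fr.NS

end H79.JO
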