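import Cfsg.Agent.Lib.JO.Defs2
import Cfsg.Agent.Lib.StdW.A

/-! Standard subgroups of type `J₁`: reduction to `L⟨t⟩`. -/

set_option autoImplicit false
set_option linter.unusedSectionVars false
set_option linter.style.haveILetI false

namespace H79.JO

open Subgroup H69 H36.SW H4.YM H4.TL
open H25.L2B (syl_iff Lie2)

variable {G : Type*} [Group G] [Finite G] {F : Type*} [Field F] [Finite F]

namespace Red

variable {A X5 : Subgroup G} {v : F → G} {h : Fˣ →* G} {r : G}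

theorem simple_or {D M : Subgroup G} (hs : IsSimpleGroup D) (hM : D ≤ 𝐍(M)) :
    (∀ x ∈ D, x ∈ M → x = 1) ∨ D ≤ M := by
  rcases (normal_subgroupOf_of_le_normalizer hM).eq_bot_or_eq_top with e | e
  · exact Or.inl fun x hx hm => congrArg Subtype.val
      ((eq_bot_iff_forall _).1 e (⟨x, hx⟩ : D) (mem_subgroupOf.2 hm))
  · exact Or.inr (subgroupOf_eq_top.1 e)

theorem cenA (st : H36.SW.A.St A) (j : Jf A X5 v h r) {x : G} (hx : x ∈ A) (hc : x ∈ 𝐂(A)) : x = 1 :=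
  ((simple_or j.simA (le_normalizer.trans (normalizer_le_normalizer_centralizer A))).resolve_right
    fun e => st.S 1 (by rwa [H69.cj_one])) x hx hc

theorem dec (j : Jf A X5 v h r) {n : G} (hn : n ∈ 𝐍(A)) : ∃ a ∈ A, a⁻¹ * n ∈ 𝐂(A) := by
  obtain ⟨a, ha, e⟩ := j.inner (A.normalizerMonoidHom ⟨n, hn⟩)
  refine ⟨a, ha, fun x hx => ?_⟩
  have e1 : n * x * n⁻¹ = a * x * a⁻¹ := e ⟨x, hx⟩
  calc x * (a⁻¹ * n) = a⁻¹ * (a * x * a⁻¹) * n := by group
    _ = _ := by rw [← e1]; group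

theorem dvd (j : Jf A X5 v h r) {H : Type*} [Group H] (f : H →* G) (hf : ∀ x, f x ∈ 𝐍(A))
    (inj : ∀ x, f x ∈ 𝐂(A) → x = 1) : Nat.card H ∣ 175560 := by
  let φ : H →* MulAut A := A.normalizerMonoidHom.comp (f.codRestrict _ hf)
  have h1 : ∀ x, φ x ∈ (MulAut.conj : A →* MulAut A).range := fun x => by
    obtain ⟨a, ha, e⟩ := j.inner (φ x)
    exact ⟨⟨a, ha⟩, MulEquiv.ext fun y => Subtype.ext (e y).symm⟩
  rw [← j.cardA]
  refine (card_dvd_of_injective (φ.codRestrict _ h1) ((injective_iff_map_eq_one _).2 fun x hx =>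
    inj x fun y hy => ?_)).trans (card_dvd_of_surjective _ (MonoidHom.rangeRestrict_surjective _))
  have e : φ x = 1 := congrArg Subtype.val hx
  have e1 : f x * y * (f x)⁻¹ = y := congrArg Subtype.val (DFunLike.congr_fun e (⟨y, hy⟩ : A))
  exact (mul_inv_eq_iff_eq_mul.1 e1).symm

theorem v0 (j : Jf A X5 v h r) : v 0 = 1 := by
  have := j.v_add 0 0
  rwa [add_zero, left_eq_mul] at this

theorem vsq (j : Jf A X5 v h r) (a : F) : v a * v a = 1 := by
  rw [← j.v_add, ← two_mul, j.char, zero_mul, v0 j]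

theorem vne (j : Jf A X5 v h r) {a : F} (ha : a ≠ 0) : v a ≠ 1 :=
  fun e => ha (j.v_inj' _ _ (e.trans (v0 j).symm))

theorem step0 (hF : IsSimpleGroup (Cfsg.generalizedFittingSubgroup G))
    (hL : Cfsg.IsStandardSubgroup A) (h0 : A ≤ Cfsg.generalizedFittingSubgroup G)
    (j : Jf A X5 v h r) : ∃ g k, H36.SW.A.Bad A g k := by
  have st := H36.SW.A.St.of hL
  obtain ⟨k, hk, k2, k1⟩ := st.ev
  have K1 : 𝐂(A) ≠ ⊥ := fun e => k1 (by rwa [e, mem_bot] at hk)
  by_contra hb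
  rcases Cfsg.Agent.S1911.result 𝐂(A) hL.2.1 (fun g hg => (H9.odd_card_iff_forall_orderOf_ne_two _).2
      fun s hs s2 => hb (by
        obtain ⟨i, hi, rfl⟩ := mem_cj'.1 hs.1
        rw [H9.orderOf_conj] at s2
        rw [← hL.2.2.2] at hg hs
        exact ⟨g, i, hg, hi, H9.mul_self_of_orderOf_two s2, H9.ne_one_of_orderOf_two s2, hs.2⟩)) with h | h
  · exact st.S 1 (by rw [H69.cj_one]; exact h0.trans (H36.SW.A.le_of_normal hF h K1))
  · have KY : 𝐂(A) ≤ normalClosure (𝐂(A) : Set G) := le_normalClosure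
    have LY := h0.trans (H36.SW.A.le_of_normal hF (M := normalClosure (𝐂(A) : Set G)) inferInstance
      fun e => K1 (le_bot_iff.1 (e ▸ KY)))
    have ha := j.vA 1
    have a1 := vne j one_ne_zero
    obtain ⟨u, u2, hu⟩ := H42.SE.exists_involution_not_mem h
    obtain ⟨d, hd, -, e⟩ := H42.SE.exists_conj h (s := ⟨k, KY hk⟩) (t := ⟨v 1, LY ha⟩)
      (H9.mul_self_of_orderOf_two u2) hu
      (H9.orderOf_eq_two_of_mul_self (fun e => k1 (congrArg Subtype.val e)) (Subtype.ext k2))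
      (le_normalizer hk)
      (H9.orderOf_eq_two_of_mul_self (fun e => a1 (congrArg Subtype.val e)) (Subtype.ext (vsq j 1)))
      (normalizer_le_normalizer_centralizer A (le_normalizer ha))
    have h1 : v 1 ∈ 𝐂(A) := by
      rw [← show (d : G) * k * (d : G)⁻¹ = v 1 from congrArg Subtype.val e]
      exact conj_mem_of_mem_normalizer hd.1 hk
    exact a1 (cenA st j ha h1)

theorem step1 (st : H36.SW.A.St A) (j : Jf A X5 v h r) {g k : G} (b : H36.SW.A.Bad A g k) :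
    ∃ g k1, H36.SW.A.Bad A g k ∧ k1 ∈ 𝐂(A) ∧ k1 * k1 = 1 ∧ g * k * g⁻¹ = v 1 * k1 := by
  obtain ⟨a, ha, hk1⟩ := dec j b.sN
  obtain ⟨k1, e1⟩ : ∃ k1, k1 = a⁻¹ * (g * k * g⁻¹) := ⟨_, rfl⟩
  have es : g * k * g⁻¹ = a * k1 := by rw [e1, mul_inv_cancel_left]
  rw [← e1] at hk1
  have s2 := cjsq b.k2 g
  rw [es, Commute.mul_mul_mul_comm (hk1 _ ha).symm] at s2
  have a2 : a * a = 1 := cenA st j (mul_mem ha ha) (by
    rw [eq_inv_of_mul_eq_one_left s2]; exact inv_mem (mul_mem hk1 hk1))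
  rw [a2, one_mul] at s2
  have a1 : a ≠ 1 := fun e => b.gN (st.T g k b.kK (P2.of_sq b.k2) b.k1 (by rwa [es, e, one_mul]))
  obtain ⟨l, hl, e⟩ := j.invA a ha a2 a1
  have lN := le_normalizer hl
  have e2 : l * g * k * (l * g)⁻¹ = l * (g * k * g⁻¹) * l⁻¹ := by group
  refine ⟨l * g, k1, ⟨fun h => b.gN ((mul_mem_cancel_left lN).1 h), b.kK, b.k2, b.k1,
    e2 ▸ mul_mem (mul_mem lN b.sN) (inv_mem lN)⟩, hk1, s2, ?_⟩
  rw [e2, es, ← e, cj]
  calc l * (a * k1) * l⁻¹ = l * a * l⁻¹ * (l * k1) * l⁻¹ := by group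
    _ = _ := by rw [hk1 l hl]; group

theorem four_dvd {P : Subgroup G} (hP : IsPGroup 2 P) {a b : G} (ha : a ∈ P) (hb : b ∈ P)
    (a1 : a ≠ 1) (b1 : b ≠ 1) (ab : a ≠ b) : 4 ∣ Nat.card P := by
  classical
  obtain ⟨n, hn⟩ := IsPGroup.iff_card.1 hP
  have h3 : 2 < Nat.card P := by
    letI := Fintype.ofFinite P
    rw [Nat.card_eq_fintype_card]
    exact Fintype.two_lt_card_iff.2 ⟨1, ⟨a, ha⟩, ⟨b, hb⟩, fun e => a1 (congrArg Subtype.val e).symm,
      fun e => b1 (congrArg Subtype.val e).symm, fun e => ab (congrArg Subtype.val e)⟩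
  rw [hn] at h3 ⊢
  rcases n with _ | _ | n
  · omega
  · omega
  · exact ⟨2 ^ n, by ring⟩

theorem cenX (j : Jf A X5 v h r) {x : G} (hx : x ∈ X5) (hc : ∀ y ∈ X5, y * x = x * y) : x = 1 := by
  obtain ⟨e⟩ := j.isoX
  haveI : IsSimpleGroup X5 := e.isSimpleGroup
  refine (simple_or this (M := 𝐂(X5))
    (le_normalizer.trans (normalizer_le_normalizer_centralizer X5))).elim (fun h => h x hx hc) fun h => ?_
  exfalso
  letI : CommGroup X5 := { (inferInstance : Group X5) with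
    mul_comm := fun a b => Subtype.ext (h b.2 a a.2) }
  have hp : (Nat.card X5).Prime := IsSimpleGroup.prime_card
  rw [Nat.card_congr e.toEquiv, nat_card_alternatingGroup, Nat.card_fin] at hp
  norm_num [Nat.factorial] at hp

theorem tr (j : Jf A X5 v h r) (a : F) : v a ∈ X5 ∨ v (a + 1) ∈ X5 := by
  letI := Fintype.ofFinite F
  have h8 : a ^ 8 = a := by
    have := FiniteField.pow_card a
    rwa [← Nat.card_eq_fintype_card, j.card8] at this
  have h2 := j.char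
  rw [j.vX, j.vX]
  have : (a + a ^ 2 + a ^ 4) * ((a + 1) + (a + 1) ^ 2 + (a + 1) ^ 4) = 0 := by
    linear_combination h8 + (a + 3 * a ^ 2 + 6 * a ^ 3 + 7 * a ^ 4 + 6 * a ^ 5 + 4 * a ^ 6 +
      2 * a ^ 7 + a + 2 * a ^ 2 + a ^ 3) * h2
  exact mul_eq_zero.1 this

theorem no4 (st : H36.SW.A.St A) (j : Jf A X5 v h r) {g k k1 : G} (b : H36.SW.A.Bad A g k)
    (hk1 : k1 ∈ 𝐂(A)) (k12 : k1 * k1 = 1) (es : g * k * g⁻¹ = v 1 * k1) {u w : G}
    (hu : u ∈ 𝐂(A)) (hw : w ∈ 𝐂(A)) (uk : u * k1 = k1 * u) (wk : w * k1 = k1 * w) (uw : u * w = w * u)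
    (u4 : u ^ 4 = 1) (w4 : w ^ 4 = 1) (u1 : u ≠ 1) (w1 : w ≠ 1) : u = w := by
  by_contra ne
  have ha := j.vA 1
  have sK : g * k * g⁻¹ ∈ 𝐂(A ^ᶜ g) := cj_centralizer A g ▸ H69.cj_mem g b.kK
  have CN : ∀ x, x * v 1 = v 1 * x → x * k1 = k1 * x → x ∈ 𝐍(A ^ᶜ g) := fun x h1 h2 =>
    st.T' g sK ((P2.of_sq b.k2).conj g) (cjne b.k1 g) (by
      rw [es, (Commute.mul_right h1 h2).eq, mul_inv_cancel_right, ← es]; exact sK)
  have XN : X5 ≤ 𝐍(A ^ᶜ g) := fun x hx =>
    CN x (cj_eq_iff.1 ((j.cz x (j.XA hx)).2 (Or.inl hx))) (hk1 x (j.XA hx))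
  have pP : IsPGroup 2 (zpowers u ⊔ zpowers w : Subgroup G) :=
    IsPGroup.to_sup_of_normal_left' (P2.of_four u4).zpowers (P2.of_four w4).zpowers
      (zpowers_le.2 (centralizer_le_normalizer _ (by
        rintro _ ⟨n, rfl⟩; exact (Commute.zpow_left uw n).eq)))
  have PC : zpowers u ⊔ zpowers w ≤ 𝐂(A) := sup_le (zpowers_le.2 hu) (zpowers_le.2 hw)
  have PN : zpowers u ⊔ zpowers w ≤ 𝐍(A ^ᶜ g) :=
    sup_le (zpowers_le.2 (CN u (hu _ ha).symm uk)) (zpowers_le.2 (CN w (hw _ ha).symm wk))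
  obtain ⟨e⟩ := j.isoX
  rcases simple_or (e.isSimpleGroup) (XN.trans (normalizer_le_normalizer_centralizer _)) with hX | hX
  · let f : (zpowers u ⊔ zpowers w : Subgroup G) × X5 →* G :=
      MonoidHom.noncommCoprod (Subgroup.subtype _) X5.subtype fun p x => (PC p.2 x (j.XA x.2)).symm
    have h1 := dvd j ((MulAut.conj g⁻¹).toMonoidHom.comp f) (fun x => by
      have := mul_mem (PN x.1.2) (XN x.2.2)
      rw [← cj_normalizer, mem_cj] at this
      rw [← inv_inv g, inv_inv g⁻¹] at this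
      exact this) fun x hx => by
        have h2 : (x.1 : G) * x.2 ∈ 𝐂(A ^ᶜ g) := by
          rw [← cj_centralizer, mem_cj]
          rw [← inv_inv g, inv_inv g⁻¹]
          exact hx
        have h3 : (x.2 : G) = 1 := cenX j x.2.2 fun y hy => by
          have h4 := mul_mem (inv_mem h2) (conj_mem_of_mem_normalizer
            (normalizer_le_normalizer_centralizer _ (XN hy)) h2)
          rw [show ((x.1 : G) * x.2)⁻¹ * (y * (x.1 * x.2) * y⁻¹) = (x.2 : G)⁻¹ * (y * x.2 * y⁻¹) by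
            rw [← mul_assoc y, PC x.1.2 y (j.XA hy)]; group] at h4
          have h5 := hX _ (mul_mem (inv_mem x.2.2) (mul_mem (mul_mem hy x.2.2) (inv_mem hy))) h4
          rw [inv_mul_eq_one, eq_mul_inv_iff_mul_eq] at h5
          exact h5.symm
        rw [h3, mul_one] at h2
        exact Prod.ext (Subtype.ext (st.two b.gN (PC x.1.2) h2 (P2.of_mem pP x.1.2))) (Subtype.ext h3)
    obtain ⟨m, hm⟩ := four_dvd pP (mem_sup_left (mem_zpowers _)) (mem_sup_right (mem_zpowers _)) u1 w1 ne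
    rw [Nat.card_prod, hm, Nat.card_congr e.toEquiv, nat_card_alternatingGroup, Nat.card_fin] at h1
    have h2 : 240 ∣ 175560 := Dvd.dvd.trans ⟨m, by norm_num [Nat.factorial]; ring⟩ h1
    omega
  · have LN : A ≤ 𝐍(A ^ᶜ g) := j.gen _ fun a a0 c hc e => by
      rcases tr j a with m | m
      · exact st.T' g (hX m) (P2.of_sq (vsq j a)) (vne j a0) (by
          rw [show c * v a * c⁻¹ = v a from e]; exact hX m)
      · have h1 : v a * k1 ∈ 𝐂(A ^ᶜ g) := by
          have := mul_mem (hX m) sK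
          rwa [es, ← mul_assoc, ← j.v_add, add_assoc, ← two_mul, j.char, zero_mul, add_zero] at this
        have c1 : Commute (v a) k1 := hk1 _ (j.vA a)
        refine st.T' g h1 (P2.of_sq (by rw [c1.symm.mul_mul_mul_comm, vsq j, k12, one_mul]))
          (fun e => vne j a0 (cenA st j (j.vA a) (by
            rw [eq_inv_of_mul_eq_one_left e]; exact inv_mem hk1))) ?_
        rwa [(Commute.mul_right (cj_eq_iff.1 e) (hk1 c hc)).eq, mul_inv_cancel_right]
    rcases simple_or j.simA (LN.trans (normalizer_le_normalizer_centralizer _)) with h1 | h1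
    · haveI := (e.isSimpleGroup).toNontrivial
      obtain ⟨x, hx⟩ := exists_ne (1 : X5)
      exact hx (Subtype.ext (h1 x (j.XA x.2) (hX x.2)))
    · exact st.S g h1

theorem sub (j : Jf A X5 v h r) {H : Subgroup G} (hH : A ≤ H) :
    Jf (A.subgroupOf H) (X5.subgroupOf H) (fun a => (⟨v a, hH (j.vA a)⟩ : H))
      (h.codRestrict H fun k => hH (j.hA k)) ⟨r, hH (j.XA j.rX)⟩ where
  char := j.char
  card8 := j.card8
  v_add a b := Subtype.ext (j.v_add a b)
  v_inj' a b e := j.v_inj' a b (congrArg Subtype.val e)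
  vA := j.vA
  hA := j.hA
  hv k a := Subtype.ext (j.hv k a)
  simA := by haveI := j.simA; exact (subgroupOfEquivOfLe hH).isSimpleGroup
  cardA := (Nat.card_congr (subgroupOfEquivOfLe hH).toEquiv).trans j.cardA
  nVA n hn e := by
    obtain ⟨k, τ, e1⟩ := j.nVA n hn fun a => (e a).imp fun b e => congrArg Subtype.val e
    exact ⟨k, τ, fun a => Subtype.ext (e1 a)⟩
  cVA n hn e := (j.cVA n hn fun a => congrArg Subtype.val (e a)).imp fun a e => Subtype.ext e
  invA i hi i2 i1 := by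
    obtain ⟨a, ha, e⟩ := j.invA i hi (congrArg Subtype.val i2) fun e => i1 (Subtype.ext e)
    exact ⟨⟨a, hH ha⟩, ha, Subtype.ext e⟩
  XA x hx := j.XA hx
  isoX := j.isoX.map fun e => (subgroupOfEquivOfLe (j.XA.trans hH)).trans e
  cz c hc := Subtype.ext_iff.trans (j.cz c hc)
  vX := j.vX
  rX := j.rX
  r3 := Subtype.ext j.r3
  rv a := Subtype.ext (j.rv a)
  gen D hD x hx := by
    obtain ⟨y, hy, e⟩ := j.gen (D.map H.subtype) (fun a a0 c hc e =>
      ⟨⟨c, hH hc⟩, hD a a0 _ hc (Subtype.ext e), rfl⟩) hx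
    exact (Subtype.ext e : y = x) ▸ hy
  inner θ := by
    obtain ⟨a, ha, e⟩ := j.inner (((subgroupOfEquivOfLe hH).symm.trans θ).trans (subgroupOfEquivOfLe hH))
    exact ⟨⟨a, hH ha⟩, ha, fun x => Subtype.ext (e ⟨x, x.2⟩)⟩

end Red

open Red

theorem red (hF : IsSimpleGroup (Cfsg.generalizedFittingSubgroup G))
    (hF' : ¬ IsMulCommutative (Cfsg.generalizedFittingSubgroup G)) {A X5 : Subgroup G}
    (hA : Cfsg.IsStandardSubgroup A) {v : F → G} {h : Fˣ →* G} {r : G} (j : Jf A X5 v h r) :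
    ∃ (t : G) (X : Fr ↥(Cfsg.generalizedFittingSubgroup G ⊔ zpowers t) F),
      Nonempty (X.L ≃* Cfsg.generalizedFittingSubgroup G) := by
  have st := H36.SW.A.St.of hA
  have h1 := H36.SW.A.le_fStar hF hF' hA
  obtain ⟨g, t, b⟩ := step0 hF hA h1 j
  obtain ⟨g, k1, b, hk1, k12, es⟩ := step1 st j b
  have syl : IsSylowIn 2 (zpowers t) 𝐂(A) :=
    H36.SW.A.syl2 b.kK b.k2 b.k1 hk1 k12 (fun u hu w hw => no4 st j b hk1 k12 es hu hw) b.kK b.k2 b.k1
  have htt := b.k2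
  have hAG : A ≤ Cfsg.generalizedFittingSubgroup G ⊔ zpowers t := h1.trans le_sup_left
  let ε : (Cfsg.generalizedFittingSubgroup G).subgroupOf (Cfsg.generalizedFittingSubgroup G ⊔ zpowers t) ≃*
      Cfsg.generalizedFittingSubgroup G := subgroupOfEquivOfLe le_sup_left
  refine ⟨t, ⟨⟨⟨t, mem_sup_right (mem_zpowers t)⟩, (Cfsg.generalizedFittingSubgroup G).subgroupOf _,
    _, _, _, _, _, sub j hAG, Subtype.ext htt, fun e => b.k1 (congrArg Subtype.val e),
    fun a ha => cj_eq_iff.2 (Subtype.ext (b.kK _ ha).symm), fun c e a ha => ?_, fun P hP h x hx => ?_,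
    Normal.subgroupOf inferInstance _, ε.isSimpleGroup, fun a ha => h1 ha, fun g => ?_,
    fun g h => ?_⟩⟩, ⟨ε⟩⟩
  · have hn : (c : G) ∈ 𝐍(A) := st.T c t b.kK (P2.of_sq b.k2) b.k1 (by
      rw [show (c : G) * t * (c : G)⁻¹ = t from congrArg Subtype.val e]; exact b.kK)
    exact conj_mem_of_mem_normalizer (A := A) hn ha
  · have xK : (x : G) ∈ 𝐂(A) := fun a ha =>
      (congrArg Subtype.val (cj_eq_iff.1 ((h x hx).2 ⟨a, hAG ha⟩ ha))).symm
    have xt : (x : G) * t = t * x := congrArg Subtype.val (cj_eq_iff.1 (h x hx).1)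
    have x2 : P2 (x : G) := let ⟨n, hn⟩ := P2.of_mem hP hx; ⟨n, congrArg Subtype.val hn⟩
    have h2 := syl.le_of_le_normalizer' x2.zpowers (zpowers_le.2 xK) (zpowers_le.2
      (centralizer_le_normalizer _ (by rintro _ ⟨n, rfl⟩; exact (Commute.zpow_left xt.symm n).eq)))
    exact ((mem_zp htt).1 (h2 (mem_zpowers _))).imp Subtype.ext Subtype.ext
  · obtain ⟨y, hy, _, ⟨n, rfl⟩, e⟩ := mem_sup_of_normal_left.1 g.2
    simp only [mem_subgroupOf, coe_mul, ← e]
    rcases Int.even_or_odd' n with ⟨n, rfl | rfl⟩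
    · left
      rwa [_root_.zpow_mul, zpow_two, htt, _root_.one_zpow, mul_one]
    · right
      rw [_root_.zpow_add, _root_.zpow_mul, zpow_two, htt, _root_.one_zpow, one_mul, zpow_one,
        ← mul_assoc]
      have := Normal.conj_mem inferInstance y hy t
      rwa [inv_eq_of_mul_eq_one_right htt] at this
  · by_contra g1
    have gC : (g : G) ∈ 𝐂(Cfsg.generalizedFittingSubgroup G) := fun x hx =>
      (congrArg Subtype.val (cj_eq_iff.1 (h ⟨x, mem_sup_left hx⟩ hx))).symm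
    have h2 := H36.SW.A.le_of_normal hF (M := 𝐂(Cfsg.generalizedFittingSubgroup G)) inferInstance
      fun e => g1 (Subtype.ext (by rwa [e, mem_bot] at gC))
    exact hF' ⟨⟨fun a b => Subtype.ext (h2 b.2 a a.2)⟩⟩

end H79.JO
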