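import Cfsg.Agent.Lib.JO.NrA
import Cfsg.Agent.Lib.ONT.Tw1

/-! The action of `N(A⟨t⟩)` on `V = 2³` (blueprint/L2S, package NRC). -/

set_option autoImplicit false
set_option linter.unusedSectionVars false
set_option linter.style.haveILetI false

namespace H79.JO

open Subgroup H4.YM H4.TL Matrix MatrixGroups
open H25.L2B (fix_sq fix_trace aut_comm aut_inv_uniq syl_iff WrD Lie2 Eight)

variable {G : Type*} [Group G] [Finite G] {F : Type*} [Field F] [Finite F]

namespace NRC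

theorem cj_ext {g g' : G} {s : Set G} (h : ∀ x ∈ s, cj g x = cj g' x) {x : G} (hx : x ∈ closure s) :
    cj g x = cj g' x := by
  induction hx using closure_induction with
  | mem x hx => exact h x hx
  | one => rw [cj_one, cj_one]
  | mul x y _ _ h1 h2 => rw [cj_mul, cj_mul, h1, h2]
  | inv x _ h1 => rw [cj_inv, cj_inv, h1]

theorem coords (X : Hyp G F) (h8 : Nat.card F = 8) {a b c : F}
    (h : closure {X.v a, X.v b, X.v c} = X.V) :
    ∃ p : (Fin 3 → ZMod 2) ≃+ F, p (Pi.single 0 1) = a ∧ p (Pi.single 1 1) = b ∧ p (Pi.single 2 1) = c := by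
  haveI : CharP F 2 := CharTwo.of_one_ne_zero_of_two_eq_zero one_ne_zero X.char
  letI : Algebra (ZMod 2) F := ZMod.algebra F 2
  let p := Fintype.linearCombination (ZMod 2) ![a, b, c]
  have hp : ∀ i, p (Pi.single i 1) = ![a, b, c] i := fun i => by
    rw [Fintype.linearCombination_apply_single, one_smul]
  have hs : Function.Surjective p := fun x => by
    have hx : X.v x ∈ closure {X.v a, X.v b, X.v c} := h ▸ X.v_mem_V x
    have : ∀ y ∈ closure {X.v a, X.v b, X.v c}, ∃ i, X.v (p i) = y := fun y hy => by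
      induction hy using closure_induction with
      | mem x hx =>
        rcases hx with rfl | rfl | rfl
        · exact ⟨_, congrArg _ (hp 0)⟩
        · exact ⟨_, congrArg _ (hp 1)⟩
        · exact ⟨_, congrArg _ (hp 2)⟩
      | one => exact ⟨0, by rw [map_zero, X.v_zero]⟩
      | mul x y _ _ h1 h2 =>
        obtain ⟨i, rfl⟩ := h1
        obtain ⟨j, rfl⟩ := h2
        exact ⟨i + j, by rw [map_add, X.v_add]⟩
      | inv x _ h1 =>
        obtain ⟨i, rfl⟩ := h1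
        exact ⟨i, (X.v_inv _).symm⟩
    obtain ⟨i, hi⟩ := this _ hx
    exact ⟨i, X.v_inj hi⟩
  have hb : Function.Bijective p := (Nat.bijective_iff_surjective_and_card p).2 ⟨hs, by
    rw [h8]; simp⟩
  exact ⟨AddEquiv.ofBijective p.toAddMonoidHom hb, hp 0, hp 1, hp 2⟩

theorem V_sq (X : Hyp G F) {u : G} (hu : u ∈ X.V) : u * u = 1 := by
  obtain ⟨a, rfl⟩ := X.mem_V.1 hu; exact X.v_sq a

theorem V_comm (X : Hyp G F) {u w : G} (hu : u ∈ X.V) (hw : w ∈ X.V) : u * w = w * u := by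
  obtain ⟨a, rfl⟩ := X.mem_V.1 hu
  obtain ⟨b, rfl⟩ := X.mem_V.1 hw
  rw [← X.v_add, ← X.v_add, add_comm]

theorem t_V (X : Hyp G F) {u : G} (hu : u ∈ X.V) : cj X.t u = u := by
  obtain ⟨a, rfl⟩ := X.mem_V.1 hu; exact X.t_v a

/-- a basis adapted to a transvection -/
theorem tv_basis (X : Hyp G F) (h8 : Nat.card X.V = 8) {g : G} (hg : ∀ u ∈ X.V, cj g u ∈ X.V)
    (gg : ∀ u ∈ X.V, cj (g * g) u = u) (ng : ¬ ∀ u ∈ X.V, cj g u = u) :
    ∃ u d b : G, closure {u, d, b} = X.V ∧ cj g u = u * d ∧ cj g d = d ∧ cj g b = b := by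
  obtain ⟨d, hd, -, gd, ⟨u, hu, ud⟩, h1, ⟨b, hb, gb, b1, bd⟩, h2⟩ :=
    e8_fix h8 (fun u hu => V_sq X hu) hg gg ng
  have key : ∀ x ∈ X.V, x * cj g x = d → cj g x = x * d := fun x hx e => by
    rw [← e, ← mul_assoc, V_sq X hx, one_mul]
  refine ⟨u, d, b, le_antisymm ((closure_le _).2 ?_) fun x hx => ?_, key u hu ud, gd, gb⟩
  · rintro _ (rfl | rfl | rfl) <;> assumption
  have mu : u ∈ closure ({u, d, b} : Set G) := subset_closure (by simp)
  have md : d ∈ closure ({u, d, b} : Set G) := subset_closure (by simp)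
  have mb : b ∈ closure ({u, d, b} : Set G) := subset_closure (by simp)
  have fx : ∀ x ∈ X.V, cj g x = x → x ∈ closure ({u, d, b} : Set G) := fun x hx e => by
    rcases h2 b hb gb b1 bd x hx e with rfl | rfl | rfl | rfl
    exacts [one_mem _, md, mb, mul_mem mb md]
  rcases h1 x hx with e | e
  · exact fx x hx (mul_left_cancel (e.trans (V_sq X hx).symm))
  · refine (Subgroup.mul_mem_cancel_right _ mu).1 (fx _ (mul_mem hx hu) ?_)
    rw [cj_mul, key x hx e, key u hu ud, mul_assoc, ← mul_assoc d, V_comm X hd hu, mul_assoc u,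
      V_sq X hd, mul_one]

/-- a fixed point modulo a fixed involution -/
theorem fix_mod {P V : Subgroup G} (hP : IsPGroup 2 P) (pV : IsPGroup 2 V)
    (hV : ∀ g ∈ P, ∀ u ∈ V, cj g u ∈ V) {z : G} (hz : ∀ g ∈ P, cj g z = z) (hc : ∀ u ∈ V, cj u z = z)
    {x : G} (hx : x ∈ V) (xz : x ∉ zpowers z) :
    ∃ w ∈ V, w ∉ zpowers z ∧ ∀ g ∈ P, w⁻¹ * cj g w ∈ zpowers z ∨ w ∈ zpowers z := by
  let H := centralizer ({z} : Set G)
  have zH : z ∈ H := mem_cen.2 (cj_eq_iff.2 rfl)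
  let Z : Subgroup H := (zpowers z).subgroupOf H
  haveI : Z.Normal := ⟨fun n hn g => by
    obtain ⟨k, hk⟩ := mem_zpowers_iff.1 (mem_subgroupOf.1 hn)
    have h1 : Commute (g : G) ((n : G)) := by
      rw [← hk]; exact Commute.zpow_right (mem_centralizer_singleton_iff.1 g.2) k
    rw [mem_subgroupOf, coe_mul, coe_mul, h1.eq, coe_inv, mul_inv_cancel_right]
    exact hn⟩
  obtain ⟨_, ⟨w, hw, rfl⟩, w1, -, h⟩ := H97.ONT.exists_cent_inv
    (A := (V.subgroupOf H).map (QuotientGroup.mk' Z)) (P := (P.subgroupOf H).map (QuotientGroup.mk' Z))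
    (pV.comap_subtype.map _) (hP.comap_subtype.map _) (fun e => by
      have : QuotientGroup.mk' Z ⟨x, mem_cen.2 (hc x hx)⟩ ∈ (V.subgroupOf H).map (QuotientGroup.mk' Z) :=
        ⟨_, hx, rfl⟩
      rw [e, mem_bot, QuotientGroup.mk'_apply, QuotientGroup.eq_one_iff] at this
      exact xz this) (by
      rintro _ ⟨g, hg, rfl⟩ _ ⟨a, ha, rfl⟩
      exact ⟨g * a * g⁻¹, hV g hg a ha, by simp⟩)
  refine ⟨w, hw, fun e => w1 ((QuotientGroup.eq_one_iff _).2 e), fun g hg => Or.inl ?_⟩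
  have h1 := h (QuotientGroup.mk' Z ⟨g, mem_cen.2 (hz g hg)⟩) ⟨_, hg, rfl⟩
  rw [← mul_inv_eq_iff_eq_mul, ← map_inv, ← map_mul, ← map_mul, eq_comm, QuotientGroup.mk'_apply,
    QuotientGroup.mk'_apply, QuotientGroup.eq] at h1
  exact h1

theorem mem_zp {z x : G} (h : z * z = 1) : x ∈ zpowers z ↔ x = 1 ∨ x = z := by
  have : zpowers z = adj ⊥ z := by rw [adj, bot_sup_eq]
  rw [this, mem_adj (fun k hk => by rw [mem_bot.1 hk, cj_one]; exact one_mem _) (by rw [h]; exact one_mem _),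
    mem_bot, mem_bot, inv_mul_eq_one, eq_comm (a := z)]

end NRC

namespace Fr.NE

open NRC

variable {X : Fr G F} {A : Subgroup G} {e : ℕ} (D : X.NE A e)
include D

/-- `N(A⟨t⟩)` is transitive on the ordered bases of `V` -/
theorem basis {a b c a' b' c' : G} (h : closure {a, b, c} = X.V) (h' : closure {a', b', c'} = X.V) :
    ∃ m ∈ normalizer (adj A X.t : Set G), m ∈ X.L ∧ cj m a = a' ∧ cj m b = b' ∧ cj m c = c' := by
  obtain ⟨a, rfl⟩ := X.mem_V.1 (h ▸ subset_closure (by simp) : a ∈ X.V)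
  obtain ⟨b, rfl⟩ := X.mem_V.1 (h ▸ subset_closure (by simp) : b ∈ X.V)
  obtain ⟨c, rfl⟩ := X.mem_V.1 (h ▸ subset_closure (by simp) : c ∈ X.V)
  obtain ⟨a', rfl⟩ := X.mem_V.1 (h' ▸ subset_closure (by simp) : a' ∈ X.V)
  obtain ⟨b', rfl⟩ := X.mem_V.1 (h' ▸ subset_closure (by simp) : b' ∈ X.V)
  obtain ⟨c', rfl⟩ := X.mem_V.1 (h' ▸ subset_closure (by simp) : c' ∈ X.V)
  obtain ⟨p, p1, p2, p3⟩ := coords X.toHyp D.eight h
  obtain ⟨p', q1, q2, q3⟩ := coords X.toHyp D.eight h'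
  obtain ⟨g, hg, e⟩ := D.gl (p.symm.trans p')
  have e1 : cj g (X.v a) = X.v a' := by rw [e, ← p1, ← q1]; simp
  have e2 : cj g (X.v b) = X.v b' := by rw [e, ← p2, ← q2]; simp
  have e3 : cj g (X.v c) = X.v c' := by rw [e, ← p3, ← q3]; simp
  rcases X.top g with hL | hL
  · exact ⟨g, hg, hL, e1, e2, e3⟩
  · exact ⟨X.t * g, mul_mem (le_normalizer self_mem_adj) hg, hL, by rw [mul_cj, e1, X.t_v],
      by rw [mul_cj, e2, X.t_v], by rw [mul_cj, e3, X.t_v]⟩

theorem nrcV {g : G} (hg : g ∈ normalizer (adj A X.t : Set G)) : ∀ u ∈ X.V, cj g u ∈ X.V := fun u hu => by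
  obtain ⟨a, rfl⟩ := X.mem_V.1 hu
  exact D.toGood.NV hg a

/-- transvections are conjugate -/
theorem conj_inv {f g : G} (hf : f ∈ normalizer (adj A X.t : Set G))
    (ff : ∀ u ∈ X.V, cj (f * f) u = u) (nf : ¬ ∀ u ∈ X.V, cj f u = u)
    (hg : g ∈ normalizer (adj A X.t : Set G)) (gg : ∀ u ∈ X.V, cj (g * g) u = u)
    (ng : ¬ ∀ u ∈ X.V, cj g u = u) :
    ∃ m ∈ normalizer (adj A X.t : Set G), ∀ u ∈ X.V, cj (cj m f) u = cj g u := by
  obtain ⟨u, d, b, h, h1, h2, h3⟩ := tv_basis X.toHyp D.card8 (D.nrcV hf) ff nf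
  obtain ⟨u', d', b', h', h1', h2', h3'⟩ := tv_basis X.toHyp D.card8 (D.nrcV hg) gg ng
  obtain ⟨m, hm, -, e1, e2, e3⟩ := D.basis h h'
  refine ⟨m, hm, fun x hx => cj_ext (s := {u', d', b'}) ?_ (h' ▸ hx)⟩
  rintro _ (rfl | rfl | rfl)
  · rw [h1', ← e1, cj_cj, h1, cj_mul, e2]
  · rw [h2', ← e2, cj_cj, h2]
  · rw [h3', ← e3, cj_cj, h3]

theorem lift (h : A = X.V) {f g : G} (hf : f ∈ normalizer (adj A X.t : Set G)) (ff : f * f = 1)
    (nf : ¬ ∀ u ∈ X.V, cj f u = u) (hg : g ∈ normalizer (adj A X.t : Set G)) (gg : g * g ∈ X.E)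
    (ng : ¬ ∀ u ∈ X.V, cj g u = u) :
    ∃ m ∈ normalizer (adj A X.t : Set G), ∃ x ∈ X.E, cj m f = g * x := by
  have QE : adj A X.t = X.E := by rw [h]; rfl
  have VE : X.V ≤ X.E := le_adj
  have tE : X.t ∈ X.E := self_mem_adj
  obtain ⟨m, hm, e⟩ := D.conj_inv hf (fun u _ => by rw [ff, one_cj]) nf hg
    (fun u hu => X.E_comm gg (VE hu)) ng
  have h0 : g⁻¹ * cj m f ∈ normalizer (adj A X.t : Set G) := mul_mem (inv_mem hg) (cj_mem hm hf)
  have h1 : ∀ u ∈ X.V, cj (g⁻¹ * cj m f) u = u := fun u hu => by rw [mul_cj, e u hu, inv_cj_cj]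
  obtain ⟨x, hx, o, ho, e1⟩ : ∃ x ∈ X.E, ∃ o ∈ X.O0, g⁻¹ * cj m f = x * o := by
    rcases X.top (g⁻¹ * cj m f) with hL | hL
    · obtain ⟨α, hα, o, ho, e1⟩ := D.cenM h0 hL h1
      exact ⟨α, VE (h ▸ hα), o, ho, e1⟩
    · obtain ⟨α, hα, o, ho, e1⟩ := D.cenM (mul_mem (le_normalizer self_mem_adj) h0) hL
        fun u hu => by rw [mul_cj, h1 u hu, t_V _ hu]
      exact ⟨X.t * α, mul_mem tE (VE (h ▸ hα)), o, ho, by rw [mul_assoc, ← e1, X.ttu]⟩
  have e2 : cj m f = g * x * o := by rw [mul_assoc, ← e1, mul_inv_cancel_left]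
  have hy : g * x ∈ normalizer (adj A X.t : Set G) := mul_mem hg (le_normalizer (QE ▸ hx))
  have y2 : g * x * (g * x) ∈ X.E := by
    rw [show g * x * (g * x) = g * g * (cj g⁻¹ x * x) by unfold cj; group]
    refine mul_mem gg (mul_mem ?_ hx)
    rw [← QE] at hx ⊢
    exact (cj_mem_iff (inv_mem hg)).2 hx
  have h2 : g * x * (g * x) * (cj (g * x)⁻¹ o * o) = 1 := by
    rw [← cj_sq (g := m) ff, e2]; unfold cj; group
  have h3 : cj (g * x)⁻¹ o * o = 1 := by
    have o1 : cj (g * x)⁻¹ o * o ∈ X.O0 := mul_mem (D.toGood.O0_norm (inv_mem hy) ho) ho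
    refine GoodAux.eq_one_of (D.toPure.mem_O0.1 o1).2 (j := 1) ?_
    rw [eq_inv_of_mul_eq_one_right h2, pow_one, pow_two, ← _root_.mul_inv_rev, X.E_sq y2, inv_one]
  obtain ⟨k, hk⟩ := (D.toPure.mem_O0.1 ho).2
  refine ⟨o ^ (k + 1) * m, mul_mem (pow_mem (D.toGood.N1_le (X.K_le_N1 (X.O0_le_K ho))) _) hm, x, hx, ?_⟩
  have h4 : cj (g * x)⁻¹ (o ^ (k + 1)) = (o ^ (k + 1))⁻¹ := by
    rw [cj_pow, eq_inv_of_mul_eq_one_left h3, inv_pow]
  have h5 : o ^ (k + 1) * o ^ (k + 1) = o := by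
    rw [← pow_add, show k + 1 + (k + 1) = 2 * k + 1 + 1 by ring, ← hk, pow_succ, pow_orderOf_eq_one, one_mul]
  rw [mul_cj, e2]
  calc cj (o ^ (k + 1)) (g * x * o) = g * x * (cj (g * x)⁻¹ (o ^ (k + 1)) * o * (o ^ (k + 1))⁻¹) := by
        unfold cj; group
    _ = g * x := by
        rw [h4]
        conv_lhs => enter [2, 1, 2]; rw [← h5]
        group

/-- a `2`-group acting faithfully with order `8` induces the whole unitriangular group -/
theorem flag {P : Subgroup G} (hP : IsPGroup 2 P) (hV : ∀ g ∈ P, ∀ u ∈ X.V, cj g u ∈ X.V)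
    (h : Nat.card P = 8 * Nat.card (P ⊓ centralizer (X.V : Set G) : Subgroup G)) :
    ∃ z w u : G, closure {z, w, u} = X.V ∧ (∀ g ∈ P, cj g z = z ∧ (cj g w = w ∨ cj g w = w * z) ∧
      (cj g u = u ∨ cj g u = u * z ∨ cj g u = u * w ∨ cj g u = u * (w * z))) ∧
      ∀ w' u', (w' = w ∨ w' = w * z) → (u' = u ∨ u' = u * z ∨ u' = u * w ∨ u' = u * (w * z)) →
        ∃ g ∈ P, cj g w = w' ∧ cj g u = u' := by
  classical
  have sq : ∀ u ∈ X.V, u * u = 1 := fun u hu => V_sq _ hu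
  have pV : IsPGroup 2 X.V := pg_of_sq sq
  have c8 := D.card8
  obtain ⟨z, hz, z1, zz, cz⟩ := H97.ONT.exists_cent_inv pV hP (fun e => by
    rw [e, card_bot] at c8; omega) hV
  have cz' : ∀ g ∈ P, cj g z = z := fun g hg => cj_eq_iff.2 (cz g hg)
  obtain ⟨x, hx, x1⟩ := exists_notMem (K := X.V) (s := {1, z})
    (by rw [c8]; exact lt_of_le_of_lt Finset.card_le_two (by norm_num))
  obtain ⟨w, hw, wz, cw⟩ := fix_mod hP pV hV cz' (fun u hu => cj_eq_iff.2 (V_comm _ hu hz)) hx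
    (by rw [mem_zp zz]; simpa using x1)
  have cw' : ∀ g ∈ P, cj g w = w ∨ cj g w = w * z := fun g hg => by
    rcases (mem_zp zz).1 ((cw g hg).resolve_right wz) with e | e
    · exact Or.inl (inv_mul_eq_one.1 e).symm
    · exact Or.inr (inv_mul_eq_iff_eq_mul.1 e)
  have zV : zpowers z ≤ X.V := zpowers_le.2 hz
  have i1 : Idx (zpowers z) (adj (zpowers z) w) w := idx_adj wz
    (fun k hk => by rw [cj_eq_iff.2 (V_comm _ hw (zV hk))]; exact hk) (by rw [sq w hw]; exact one_mem _)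
  have WV : adj (zpowers z) w ≤ X.V := adj_le zV hw
  have c2 : Nat.card (zpowers z) = 2 := by
    rw [Nat.card_zpowers]; exact orderOf_eq_prime (by rw [pow_two, zz]) z1
  have memW : ∀ y, y ∈ adj (zpowers z) w ↔ y = 1 ∨ y = z ∨ y = w ∨ y = w * z := fun y => by
    rw [i1.mem_iff, mem_zp zz, mem_zp zz, inv_mul_eq_one, inv_mul_eq_iff_eq_mul, eq_comm (a := w), or_assoc]
  obtain ⟨u, hu, uW⟩ : ∃ u ∈ X.V, u ∉ adj (zpowers z) w := by
    by_contra hn
    push Not at hn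
    have := card_le_of_le (show X.V ≤ _ from hn)
    rw [i1.card, c2] at this
    omega
  have i2 : Idx (adj (zpowers z) w) (adj (adj (zpowers z) w) u) u := idx_adj uW
    (fun k hk => by rw [cj_eq_iff.2 (V_comm _ hu (WV hk))]; exact hk) (by rw [sq u hu]; exact one_mem _)
  have eV : adj (adj (zpowers z) w) u = X.V :=
    eq_of_le_of_card_ge (adj_le WV hu) (by rw [i2.card, i1.card, c2, c8])
  have cl : closure {z, w, u} = X.V := by
    refine le_antisymm ((closure_le _).2 ?_) ?_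
    · rintro _ (rfl | rfl | rfl) <;> assumption
    · rw [← eV]
      exact adj_le (adj_le (zpowers_le.2 (subset_closure (by simp))) (subset_closure (by simp)))
        (subset_closure (by simp))
  have nW : ∀ g ∈ P, ∀ y ∈ adj (zpowers z) w, cj g y ∈ adj (zpowers z) w := fun g hg =>
    adj_le_comap (fun k hk => le_adj (by
      rcases (mem_zp zz).1 hk with rfl | rfl
      · rw [cj_one]; exact one_mem _
      · rw [cz' g hg]; exact hk)) ((memW _).2 (Or.inr (Or.inr (cw' g hg))))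
  have cu : ∀ g ∈ P, cj g u = u ∨ cj g u = u * z ∨ cj g u = u * w ∨ cj g u = u * (w * z) := by
    intro g hg
    rcases i2.dich _ (eV ▸ hV g hg u hu) with e | e
    · have := nW _ (inv_mem hg) _ e
      rw [inv_cj_cj] at this
      exact absurd this uW
    · simpa only [memW, inv_mul_eq_iff_eq_mul, mul_one] using e
  refine ⟨z, w, u, cl, fun g hg => ⟨cz' g hg, cw' g hg, cu g hg⟩, fun w' u' h1 h2 => ?_⟩
  let T : Finset (G × G) := {w, w * z} ×ˢ {u, u * z, u * w, u * (w * z)}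
  have cT : T.card ≤ 8 := by
    rw [Finset.card_product]
    exact Nat.mul_le_mul Finset.card_le_two Finset.card_le_four
  let f : P → G × G := fun g => (cj g w, cj g u)
  have inj := H97.ONT.inj_out (T := P ⊓ centralizer (X.V : Set G)) f (fun a b e => by
    refine ⟨P.mul_mem (P.inv_mem a.2) b.2, mem_centralizer_iff.2 fun y hy => ?_⟩
    have : cj (a : G) y = cj (b : G) y := cj_ext (s := {z, w, u}) (by
      rintro _ (rfl | rfl | rfl)
      · rw [cz' _ a.2, cz' _ b.2]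
      · exact congrArg Prod.fst e
      · exact congrArg Prod.snd e) (cl ▸ hy)
    refine (cj_eq_iff.1 ?_).symm
    rw [mul_cj, ← this, inv_cj_cj])
  have c3 : Nat.card (P ⧸ (P ⊓ centralizer (X.V : Set G)).subgroupOf P) = 8 := by
    have h3 := card_eq_card_quotient_mul_card_subgroup ((P ⊓ centralizer (X.V : Set G)).subgroupOf P)
    rw [Nat.card_congr (subgroupOfEquivOfLe inf_le_left).toEquiv, h] at h3
    exact (Nat.eq_of_mul_eq_mul_right Nat.card_pos h3).symm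
  have hsub : (Set.range fun c : P ⧸ (P ⊓ centralizer (X.V : Set G)).subgroupOf P => f c.out) ⊆ T := by
    rintro _ ⟨c, rfl⟩
    simp only [T, f, Finset.coe_product, Set.mem_prod, Finset.coe_insert, Finset.coe_singleton,
      Set.mem_insert_iff, Set.mem_singleton_iff]
    exact ⟨cw' _ c.out.2, cu _ c.out.2⟩
  have heq := Set.eq_of_subset_of_ncard_le hsub (by
    rw [Set.ncard_range_of_injective inj, c3, Set.ncard_coe_finset]; exact cT) T.finite_toSet
  have : (w', u') ∈ (T : Set (G × G)) := by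
    simp only [T, Finset.coe_product, Set.mem_prod, Finset.coe_insert, Finset.coe_singleton,
      Set.mem_insert_iff, Set.mem_singleton_iff]
    exact ⟨h1, h2⟩
  rw [← heq] at this
  obtain ⟨c, hc⟩ := this
  exact ⟨c.out, c.out.2, congrArg Prod.fst hc, congrArg Prod.snd hc⟩

end Fr.NE

end H79.JO
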